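import Cfsg.Agent.Lib.MaxSub.TPowE.Spin
import Cfsg.Agent.Lib.MaxSub.TPow.Slot
import Cfsg.Agent.Lib.Geom.OmegaMax

/-!
The commutator subgroup of the isometries of a weighted tensor power and its intersection with the wreath
subgroup: membership of slot elements and of slot permutations, invariance.
-/

set_option autoImplicit false
set_option linter.unusedSectionVars false

namespace CfsgLib.MaxSub.TPowE

open Matrix CfsgLib.Classical CfsgLib.Geom CfsgLib.MaxSub
open QuadraticMap (polar)
open scoped Matrix MatrixGroups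

variable {t k : ℕ} {F : Type*} [Field F] [Fintype F] {w : Fin k → F}

variable (t) in
/-- the commutator subgroup of the isometry group of the weighted tensor power, as matrices -/
def OmW (w : Fin k → F) : Subgroup (GL (Fin t → Fin k) F) := Cfsg.Geo.omegaGL ⇑(wq (tw t w))

variable (t) in
/-- the wreath stabiliser inside `OmW` -/
def baseW (w : Fin k → F) : Subgroup (GL (Fin t → Fin k) F) :=
  Cfsg.Geo.tensorWreathStandard k t F ⊓ OmW t w

theorem mem_OmW {g : BigW t w} (hg : g ∈ commutator (BigW t w)) : isomsToGL (wq (tw t w)) g ∈ OmW t w := by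
  rw [OmW, omegaGL_eq_map]
  exact Subgroup.mem_map_of_mem _ hg

theorem isomsToGL_entry {ι : Type} [Fintype ι] [DecidableEq ι] (Q : QuadraticForm F (ι → F)) (g : quadIsoms Q)
    (p q : ι) : (isomsToGL Q g : Matrix ι ι F) p q = g.1 (Pi.single q 1) p := by
  rw [← isomsToGL_mulVec, Matrix.mulVec_single_one, Matrix.col_apply]

/-- a slot isometry as a matrix -/
theorem slotQ_toGL (i : Fin t) (x : SmlW w) :
    isomsToGL (wq (tw t w)) (slotQ i x) = TPow.slotGL i (isomsToGL (wq w) x) := by
  classical
  refine Units.ext (Matrix.ext fun p q => ?_)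
  rw [isomsToGL_entry, TPow.slotGL_val, TPow.slot_apply, CfsgLib.Aschbacher.slot_apply]
  show (lineQ i (constI i x)).1 (Pi.single q 1) p = _
  rw [lineQ_apply]
  show x.1 (fun a => (Pi.single q (1 : F) : (Fin t → Fin k) → F) (Function.update p i a)) (p i) = _
  by_cases h : ∀ j, j ≠ i → p j = q j
  · have e : (fun a => (Pi.single q (1 : F) : (Fin t → Fin k) → F) (Function.update p i a)) =
        Pi.single (q i) 1 := by
      funext a
      rw [Pi.single_apply, Pi.single_apply]
      refine if_congr ⟨fun e => ?_, fun e => ?_⟩ rfl rfl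
      · rw [← e, Function.update_self]
      · funext j
        rcases eq_or_ne j i with rfl | hj
        · rw [Function.update_self, e]
        · rw [Function.update_of_ne hj, h j hj]
    rw [e, if_pos h, isomsToGL_entry]
  · have e : (fun a => (Pi.single q (1 : F) : (Fin t → Fin k) → F) (Function.update p i a)) = 0 := by
      funext a
      rw [Pi.single_apply, if_neg, Pi.zero_apply]
      exact fun e => h fun j hj => by rw [← e, Function.update_of_ne hj]
    rw [e, map_zero, if_neg h, Pi.zero_apply]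

theorem slotQ_mem_wreath (i : Fin t) (x : SmlW w) :
    isomsToGL (wq (tw t w)) (slotQ i x) ∈ Cfsg.Geo.tensorWreathStandard k t F := by
  rw [slotQ_toGL]
  exact TPow.slotGL_mem_wreath i _

/-- slot isometries lie in the base when there are three slots or the discriminant is a square -/
theorem slot_mem_baseW (h2 : (2 : F) ≠ 0) (hw : ∀ a, w a ≠ 0) (hk : Even k) (ht : 2 ≤ t)
    (h : 3 ≤ t ∨ IsSquare (∏ a, w a)) (i : Fin t) (x : SmlW w) :
    isomsToGL (wq (tw t w)) (slotQ i x) ∈ baseW t w :=
  ⟨slotQ_mem_wreath i x, mem_OmW (slotQ_mem_commutator h2 hw hk ht h i x)⟩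

/-- two slot reflections together lie in the base -/
theorem slot_refl_pair_mem_baseW (h2 : (2 : F) ≠ 0) (hw : ∀ a, w a ≠ 0) (hk : Even k) (ht : 2 ≤ t) (i j : Fin t)
    {u v : Fin k → F} (hu : wq w u ≠ 0) (hv : wq w v ≠ 0) :
    isomsToGL (wq (tw t w)) (slotQ i ⟨reflEquiv (wq w) u hu, reflEquiv_mem _ u hu⟩ *
      slotQ j ⟨reflEquiv (wq w) v hv, reflEquiv_mem _ v hv⟩) ∈ baseW t w := by
  refine ⟨?_, mem_OmW (slot_refl_pair_mem h2 hw hk ht i j hu hv)⟩
  rw [map_mul]
  exact mul_mem (slotQ_mem_wreath i _) (slotQ_mem_wreath j _)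

/-- commutators of slot isometries lie in the base -/
theorem slot_commutator_mem_baseW (i : Fin t) {x : SmlW w} (hx : x ∈ commutator (SmlW w)) :
    isomsToGL (wq (tw t w)) (slotQ i x) ∈ baseW t w := by
  refine ⟨slotQ_mem_wreath i x, mem_OmW ?_⟩
  have h := Subgroup.mem_map_of_mem (slotQ (w := w) i) hx
  rw [commutator_def, Subgroup.map_commutator] at h
  exact commutator_def (BigW t w) ▸ Subgroup.commutator_mono le_top le_top h

theorem tw_comp (σ : Equiv.Perm (Fin t)) (p : Fin t → Fin k) : tw t w (p ∘ σ) = tw t w p :=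
  Equiv.prod_comp σ fun j => w (p j)

/-- permutations of the slots -/
def slotPerm : Equiv.Perm (Fin t) →* wperm (tw t w) where
  toFun σ := ⟨Equiv.arrowCongr σ (Equiv.refl _), fun p => tw_comp σ.symm p⟩
  map_one' := rfl
  map_mul' _ _ := rfl

/-- slot permutations lie in the wreath subgroup -/
theorem slotPerm_mem_wreath (σ : Equiv.Perm (Fin t)) :
    isomsToGL (wq (tw t w)) (permW (tw t w) (slotPerm σ)) ∈ Cfsg.Geo.tensorWreathStandard k t F := by
  classical
  refine Subgroup.subset_closure (Or.inr ⟨σ, fun p q => ?_⟩)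
  rw [isomsToGL_entry, permW_single, Pi.single_apply]
  refine if_congr ⟨fun e => ?_, fun e => ?_⟩ rfl rfl
  · rw [e]
    funext j
    exact (congrArg q (σ.symm_apply_apply j)).symm
  · rw [e]
    funext j
    exact (congrArg p (σ.apply_symm_apply j)).symm

/-- commutators of slot permutations lie in the base -/
theorem slotPerm_mem_baseW {σ : Equiv.Perm (Fin t)} (hσ : σ ∈ commutator (Equiv.Perm (Fin t))) :
    isomsToGL (wq (tw t w)) (permW (tw t w) (slotPerm σ)) ∈ baseW t w := by
  refine ⟨slotPerm_mem_wreath σ, mem_OmW ?_⟩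
  have h := Subgroup.mem_map_of_mem ((permW (tw t w)).comp slotPerm) hσ
  rw [commutator_def, Subgroup.map_commutator] at h
  exact commutator_def (BigW t w) ▸ Subgroup.commutator_mono le_top le_top h

/-- conjugation by an isometry preserves `OmW` -/
theorem OmW_conj (g : BigW t w) {x : GL (Fin t → Fin k) F} (hx : x ∈ OmW t w) :
    isomsToGL (wq (tw t w)) g * x * (isomsToGL (wq (tw t w)) g)⁻¹ ∈ OmW t w := by
  rw [OmW, omegaGL_eq_map] at hx ⊢
  obtain ⟨y, hy, rfl⟩ := hx
  refine ⟨g * y * g⁻¹, ?_, by simp⟩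
  exact (commutator_def (BigW t w) ▸ Subgroup.commutator_normal ⊤ ⊤ : (commutator (BigW t w)).Normal).conj_mem y hy g

/-- conjugates by wreath isometries of a group between the base and `OmW` lie between them -/
theorem conj_hyp (g : BigW t w) (hg : isomsToGL (wq (tw t w)) g ∈ Cfsg.Geo.tensorWreathStandard k t F)
    {M : Subgroup (GL (Fin t → Fin k) F)} (h1 : baseW t w ≤ M) (h3 : M ≤ OmW t w) :
    baseW t w ≤ M.map (MulAut.conj (isomsToGL (wq (tw t w)) g)).toMonoidHom ∧
      M.map (MulAut.conj (isomsToGL (wq (tw t w)) g)).toMonoidHom ≤ OmW t w := by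
  constructor
  · intro x hx
    refine ⟨(isomsToGL (wq (tw t w)) g)⁻¹ * x * isomsToGL (wq (tw t w)) g, h1 ⟨?_, ?_⟩, ?_⟩
    · exact Subgroup.mul_mem _ (Subgroup.mul_mem _ (Subgroup.inv_mem _ hg) hx.1) hg
    · have h := OmW_conj g⁻¹ hx.2
      rwa [map_inv, inv_inv] at h
    · simp [MulAut.conj_apply, mul_assoc]
  · rintro _ ⟨x, hx, rfl⟩
    exact OmW_conj g (h3 hx)

end CfsgLib.MaxSub.TPowE
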