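import Cfsg.Agent.Lib.MaxSub.TPowE.Gen

/-!
An overgroup of the wreath stabiliser in the weighted model with an element diagonal in all slots but one,
trivial over one point and not scalar over another, is the whole commutator subgroup.
-/

set_option autoImplicit false
set_option linter.unusedSectionVars false

namespace CfsgLib.MaxSub.TPowE

open Matrix CfsgLib.Classical CfsgLib.Geom CfsgLib.Geom.OrthSub CfsgLib.MaxSub
open QuadraticMap (polar)
open scoped Matrix MatrixGroups

variable {t k : ℕ} {F : Type*} [Field F]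

/-- the form on one line is a multiple of the slot form -/
theorem wq_lineVec_smul (w : Fin k → F) (i : Fin t) (p : Fin t → Fin k) (z : Fin k → F) :
    wq (tw t w) (lineVec i p z) = (∏ j ∈ Finset.univ.erase i, w (p j)) * wq w z := by
  rw [wq_apply, wq_apply, Finset.mul_sum]
  have h := sum_lineVec i p z fun r => tw t w r * lineVec i p z r
  refine (Finset.sum_congr rfl fun r _ => ?_).trans (h.trans (Finset.sum_congr rfl fun a _ => ?_))
  · ring
  · rw [tw_update, lineVec_at]; ring

theorem boot [Fintype F] {δ : F} (hk : SlotOk k δ) (ht : 2 ≤ t) {M : Subgroup (GL (Fin t → Fin k) F)}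
    (hbase : baseW t (dW k δ) ≤ M) (hM : M ≤ OmW t (dW k δ)) (hboot : ¬ TPow.NoBoot M) :
    M = OmW t (dW k δ) := by
  classical
  obtain ⟨Mq, hMq⟩ : ∃ Mq : Subgroup (BigW t (dW k δ)), Mq = M.comap (isomsToGL (wq (tw t (dW k δ)))) := ⟨_, rfl⟩
  have hOm : OmW t (dW k δ) = (commutator (BigW t (dW k δ))).map (isomsToGL (wq (tw t (dW k δ)))) :=
    omegaGL_eq_map _
  suffices h : commutator (BigW t (dW k δ)) ≤ Mq by
    refine le_antisymm hM ?_
    rw [hOm, Subgroup.map_le_iff_le_comap, ← hMq]
    exact h
  have hin : ∀ {g : BigW t (dW k δ)}, isomsToGL (wq (tw t (dW k δ))) g ∈ baseW t (dW k δ) → g ∈ Mq := fun hg => by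
    rw [hMq, Subgroup.mem_comap]
    exact hbase hg
  have C : Ctx t k δ Mq :=
    ⟨hk, ht, fun i x hx => hin (slot_commutator_mem_baseW i hx),
      fun i j u v hu hv => hin (slot_refl_pair_mem_baseW hk.two hk.wne hk.even ht i j hu hv),
      fun σ hσ => hin (slotPerm_mem_baseW hσ)⟩
  simp only [TPow.NoBoot, not_forall] at hboot
  obtain ⟨i, u, g, hg, hind, hgu, ⟨a, ha⟩, b, hb⟩ := hboot
  obtain ⟨gq, -, rfl⟩ : g ∈ (commutator (BigW t (dW k δ))).map (isomsToGL (wq (tw t (dW k δ)))) := hOm ▸ hM hg
  have hap : ∀ (x : (Fin t → Fin k) → F) r, gq.1 x r = (u r *ᵥ fun c => x (Function.update r i c)) (r i) := by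
    intro x r
    rw [← isomsToGL_mulVec, hgu]
    simp only [Matrix.mulVec, dotProduct, TPow.tup, Matrix.of_apply]
    rw [← Finset.sum_subset (Finset.subset_univ (Finset.univ.image (Function.update r i))) fun q _ hq => by
      rw [if_neg, zero_mul]
      exact fun h => hq (Finset.mem_image.2 ⟨q i, Finset.mem_univ _, funext fun j => by
        rcases eq_or_ne j i with rfl | hj
        · simp
        · simp [hj, h j hj]⟩), Finset.sum_image fun x _ y _ h => by simpa using congrFun h i]
    refine Finset.sum_congr rfl fun c _ => ?_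
    rw [if_pos fun j hj => (Function.update_of_ne hj _ _).symm, Function.update_self]
  have hline : ∀ p y, gq.1 (lineVec i p y) = lineVec i p (u p *ᵥ y) := by
    intro p y
    funext r
    rw [hap, lineVec_apply i p (u p *ᵥ y)]
    by_cases h : ∀ j, j ≠ i → r j = p j
    · have e : r = Function.update p i (r i) := funext fun j => by
        rcases eq_or_ne j i with rfl | hj
        · simp
        · simp [hj, h j hj]
      rw [if_pos h, show u r = u p by rw [e, hind],
        show (fun c => lineVec i p y (Function.update r i c)) = y from funext fun c => by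
          rw [e, Function.update_idem, lineVec_at]]
    · rw [if_neg h, show (fun c => lineVec i p y (Function.update r i c)) = 0 from funext fun c => by
        rw [lineVec_apply, if_neg]
        · rfl
        · exact fun h' => h fun j hj => by
            have := h' j hj
            rwa [Function.update_of_ne hj] at this, Matrix.mulVec_zero]
      rfl
  have hiso : ∀ p y, wq (dW k δ) (u p *ᵥ y) = wq (dW k δ) y := by
    intro p y
    have h := mem_quadIsoms.1 gq.2 (lineVec i p y)
    rw [hline, wq_lineVec_smul, wq_lineVec_smul] at h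
    exact mul_left_cancel₀ (Finset.prod_ne_zero_iff.2 fun j _ => hk.wne _) h
  have hinj : ∀ p, Function.Injective (Matrix.mulVecLin (u p)) := by
    intro p
    refine (injective_iff_map_eq_zero _).2 fun y hy => wq_sep hk.wne hk.two y fun z => ?_
    simp only [QuadraticMap.polar]
    rw [← hiso p (y + z), ← hiso p y, ← hiso p z, Matrix.mulVec_add, show u p *ᵥ y = 0 from hy]
    simp
  obtain ⟨uq, huq⟩ : ∃ uq : (Fin t → Fin k) → SmlW (dW k δ), ∀ p y, (uq p).1 y = u p *ᵥ y :=
    ⟨fun p => ⟨LinearEquiv.ofInjectiveEndo (Matrix.mulVecLin (u p)) (hinj p), mem_quadIsoms.2 fun y => hiso p y⟩,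
      fun p y => rfl⟩
  have hui : uq ∈ indep t (dW k δ) i := fun p c => quadIsoms_ext _ fun y => by rw [huq, huq, hind p c]
  have he : lineQ i ⟨uq, hui⟩ = gq := quadIsoms_ext _ fun x => funext fun r => by
    rw [lineQ_apply, huq, hap]
  have hmem : lineQ i ⟨uq, hui⟩ ∈ Mq := by rw [he, hMq]; exact hg
  refine commutator_le C (lines C hmem (a := a) (b := b) ⟨1, fun v => ?_⟩ ?_)
  · rw [huq, ha, Matrix.one_mulVec, one_smul]
  · rintro ⟨c, hc⟩
    refine hb ⟨c, Matrix.ext_iff_mulVec.2 fun y => ?_⟩
    rw [← huq, hc, Matrix.smul_mulVec, Matrix.one_mulVec]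

end CfsgLib.MaxSub.TPowE
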