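import Cfsg.Agent.Lib.MaxSub.TPowE.Shrink
import Cfsg.Agent.Lib.Geom.SiegelFull

/-!
The commutator subgroups of the lines with fixed coordinates of weight one, with the base, generate the commutator
subgroup of the weighted tensor power.
-/

set_option autoImplicit false
set_option linter.unusedSectionVars false

namespace CfsgLib.MaxSub.TPowE

open Matrix CfsgLib.Classical CfsgLib.Geom CfsgLib.Geom.OrthSub CfsgLib.MaxSub
open CfsgLib.MaxSub.OFrame (InW wSub mem_wSub)
open QuadraticMap (polar)
open scoped Matrix MatrixGroups commutatorElement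

variable {t k : ℕ} {F : Type*} [Field F] {δ : F}

/-- the vector `z` on the line through `c` in direction `i` -/
def lineVec (i : Fin t) (c : Fin t → Fin k) : (Fin k → F) →ₗ[F] ((Fin t → Fin k) → F) where
  toFun (z : Fin k → F) (p : Fin t → Fin k) := if ∀ j, j ≠ i → p j = c j then z (p i) else 0
  map_add' z z' := funext fun p => by
    simp only [Pi.add_apply]
    split_ifs <;> simp
  map_smul' a z := funext fun p => by
    simp only [Pi.smul_apply, RingHom.id_apply, smul_eq_mul]
    split_ifs <;> simp

theorem lineVec_apply (i : Fin t) (c : Fin t → Fin k) (z : Fin k → F) (p : Fin t → Fin k) :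
    lineVec i c z p = if ∀ j, j ≠ i → p j = c j then z (p i) else 0 := rfl

theorem lineVec_single (i : Fin t) (c : Fin t → Fin k) (a : Fin k) (l : F) :
    lineVec i c (Pi.single a l) = Pi.single (Function.update c i a) l := by
  funext p
  rw [lineVec_apply, Pi.single_apply, Pi.single_apply]
  by_cases h : p = Function.update c i a
  · subst h
    rw [if_pos fun j hj => by rw [Function.update_of_ne hj], if_pos (Function.update_self _ _ _), if_pos rfl]
  · rw [if_neg h]
    split_ifs with h1 h3
    · exact absurd (funext fun j => by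
        rcases eq_or_ne j i with rfl | hj
        · rw [h3, Function.update_self]
        · rw [h1 j hj, Function.update_of_ne hj]) h
    all_goals rfl

theorem lineVec_at (i : Fin t) (c : Fin t → Fin k) (z : Fin k → F) (a : Fin k) :
    lineVec i c z (Function.update c i a) = z a := by
  rw [lineVec_apply, if_pos fun j hj => by rw [Function.update_of_ne hj], Function.update_self]

theorem sum_lineVec (i : Fin t) (c : Fin t → Fin k) (z : Fin k → F) (g : (Fin t → Fin k) → F) :
    ∑ p, g p * lineVec i c z p = ∑ a, g (Function.update c i a) * z a := by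
  classical
  have hinj : Function.Injective fun a => Function.update c i a := fun a b e => by simpa using congrFun e i
  refine (Fintype.sum_of_injective _ hinj _ _ (fun p hp => ?_) fun a => ?_).symm
  · rw [lineVec_apply, if_neg, mul_zero]
    exact fun h => hp ⟨p i, funext fun j => by
      rcases eq_or_ne j i with rfl | hj
      · simp
      · simp [hj, h j hj]⟩
  · simp only [lineVec_at]

theorem tw_line {i : Fin t} {c : Fin t → Fin k} (hc : ∀ j, j ≠ i → W1 (c j)) (a : Fin k) :
    tw t (dW k δ) (Function.update c i a) = dW k δ a := by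
  rw [tw_update, Finset.prod_eq_one fun j hj => dW_w1 δ (hc j (Finset.ne_of_mem_erase hj)), mul_one]

theorem polar_lineVec {i : Fin t} {c : Fin t → Fin k} (hc : ∀ j, j ≠ i → W1 (c j)) (z : Fin k → F)
    (y : (Fin t → Fin k) → F) :
    polar (wq (tw t (dW k δ))) (lineVec i c z) y =
      polar (wq (dW k δ)) z (fun a => y (Function.update c i a)) := by
  rw [polar_wq, polar_wq]
  congr 1
  have h := sum_lineVec i c z fun p => tw t (dW k δ) p * y p
  refine (Finset.sum_congr rfl fun p _ => ?_).trans (h.trans (Finset.sum_congr rfl fun a _ => ?_))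
  · ring
  · rw [tw_line hc]; ring

theorem wq_lineVec {i : Fin t} {c : Fin t → Fin k} (hc : ∀ j, j ≠ i → W1 (c j)) (z : Fin k → F) :
    wq (tw t (dW k δ)) (lineVec i c z) = wq (dW k δ) z := by
  rw [wq_apply, wq_apply]
  have h := sum_lineVec i c z fun p => tw t (dW k δ) p * lineVec i c z p
  refine (Finset.sum_congr rfl fun p _ => ?_).trans (h.trans (Finset.sum_congr rfl fun a _ => ?_))
  · ring
  · rw [tw_line hc, lineVec_at]; ring

/-- a line element applied to a vector of its line -/
theorem lineQ_oneI_single {w : Fin k → F} (m : Fin t) (y : Fin t → Fin k) (x : SmlW w) (a : Fin k) :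
    (lineQ m (oneI m y x)).1 (Pi.single (Function.update y m a) 1) = lineVec m y (x.1 (Pi.single a 1)) := by
  funext p
  rw [lineQ_apply, oneI_apply, lineVec_apply]
  by_cases h : ∀ j, j ≠ m → p j = y j
  · rw [if_pos h, if_pos h]
    refine congrFun (congrArg _ (funext fun e => ?_)) _
    rw [Pi.single_apply, Pi.single_apply]
    refine if_congr ⟨fun e' => by simpa using congrFun e' m, fun e' => ?_⟩ rfl rfl
    funext j
    rcases eq_or_ne j m with rfl | hj
    · simp [e']
    · simp [hj, h j hj]
  · rw [if_neg h, if_neg h]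
    show (fun e => (Pi.single (Function.update y m a) (1 : F) : (Fin t → Fin k) → F) (Function.update p m e)) (p m) = 0
    simp only [Function.update_eq_self]
    exact Pi.single_eq_of_ne (fun e : p = Function.update y m a => h fun j hj => by rw [e, Function.update_of_ne hj]) 1

variable [Fintype F]

/-- moving the last coordinate, one coordinate fixed -/
theorem exists_mix (hk : SlotOk k δ) {c b : Fin k} (hc : W1 c) (hb : W1 b) (hcb : c ≠ b) :
    ∃ X ∈ commutator (SmlW (dW k δ)), X.1 (Pi.single c 1) = Pi.single c 1 ∧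
      X.1 (Pi.single b 1) (dC hk.pos) ≠ 0 ∧ X.1 (Pi.single b 1) c = 0 := by
  classical
  obtain ⟨b', hb', hb'c, hb'b⟩ := hk.exists_w1 c b
  obtain ⟨d, hd⟩ : ∃ d, d = dC hk.pos := ⟨_, rfl⟩
  have hnd : ∀ e, W1 e → e ≠ d := fun e he e' => (not_w1_iff hk.pos).2 (e'.trans hd) he
  obtain ⟨s, r, hsr⟩ := exists_binary_eq hk.two (one_ne_zero (α := F)) one_ne_zero (-δ)
  simp only [one_mul] at hsr
  obtain ⟨u, hu⟩ : ∃ u : Fin k → F, u = Pi.single b s + Pi.single b' r + Pi.single d 1 := ⟨_, rfl⟩
  obtain ⟨z, hz⟩ : ∃ z : F → Fin k → F, z = fun l => Pi.single b (-(l * r)) + Pi.single b' (l * s) := ⟨_, rfl⟩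
  have hbd := hnd b hb
  have hb'd := hnd b' hb'
  have hcd := hnd c hc
  have hpu : ∀ y : Fin k → F, polar (wq (dW k δ)) u y = 2 * (s * y b + r * y b' + δ * y d) := fun y => by
    rw [polar_wq, hu]
    congr 1
    simp [Pi.single_apply, add_mul, mul_add, Finset.sum_add_distrib, dW_w1 δ hb, dW_w1 δ hb']
    rw [hd, dW_dC δ hk.pos]
    exact Or.inl rfl
  have huu : wq (dW k δ) u = 0 := by
    have h := hpu u
    rw [QuadraticMap.polar_self, nsmul_eq_mul, Nat.cast_ofNat, hu] at h
    simp [hbd, hbd.symm, hb'd, hb'd.symm, hb'b, Ne.symm hb'b] at h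
    rw [hu]
    rcases h with h | h
    · rw [h]; linear_combination hsr
    · exact absurd h hk.two
  have huz : ∀ l, polar (wq (dW k δ)) u (z l) = 0 := fun l => by
    rw [hpu, hz]
    simp [hbd.symm, hb'd.symm, hb'b, Ne.symm hb'b]
    exact Or.inr (by ring)
  have hzc : ∀ l, polar (wq (dW k δ)) (z l) (Pi.single c 1) = 0 := fun l => by
    rw [polar_wq, Finset.sum_eq_single c (fun e _ he => by simp [he]) (by simp), hz]
    simp [hcb, hb'c.symm]
  have huc : polar (wq (dW k δ)) u (Pi.single c 1) = 0 := by
    rw [hpu]; simp [hcb.symm, hb'c, hcd.symm]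
  have hub : polar (wq (dW k δ)) u (Pi.single b 1) = 2 * s := by
    rw [hpu]; simp [hb'b, hbd.symm]
  have hzb : ∀ l, polar (wq (dW k δ)) (z l) (Pi.single b 1) = -(2 * (l * r)) := fun l => by
    rw [polar_wq, Finset.sum_eq_single b (fun e _ he => by simp [he]) (by simp), hz, dW_w1 δ hb]
    simp [Ne.symm hb'b]
  have hzz : ∀ l, wq (dW k δ) (z l) = l * l * -δ := fun l => by
    rw [wq_apply, hz]
    simp [Pi.single_apply, add_mul, mul_add, Finset.sum_add_distrib, dW_w1 δ hb, dW_w1 δ hb', Ne.symm hb'b, hb'b]
    linear_combination l * l * hsr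
  obtain ⟨l, hl⟩ : ∃ l : F, -(2 * (l * r)) + l * l * -δ * (2 * s) ≠ 0 := by
    by_contra h
    simp only [not_exists, not_not] at h
    have h1 := h 1
    have h3 := h (-1)
    have hs : s = 0 := (mul_eq_zero.1 (show (2 * 2 * δ) * s = 0 by linear_combination -h1 - h3)).resolve_left
      (mul_ne_zero (mul_ne_zero hk.two hk.two) hk.ne)
    have hr : r = 0 := (mul_eq_zero.1 (show (2 * 2) * r = 0 by linear_combination -h1 + h3)).resolve_left
      (mul_ne_zero hk.two hk.two)
    exact hk.ne (by rw [hs, hr] at hsr; linear_combination hsr)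
  refine ⟨siegel (wq (dW k δ)) u (z l), siegel_mem_commW hk.two hk.wne u (z l), ?_, ?_, ?_⟩
  · rw [siegel_apply _ huu (huz l), huc, hzc]
    simp
  · rw [siegel_apply _ huu (huz l), hub, hzb, hzz, ← hd]
    simp only [Pi.sub_apply, Pi.add_apply, Pi.smul_apply, smul_eq_mul]
    rw [hu, hz]
    simp [hbd.symm, hb'd.symm]
    intro h
    exact hl (by linear_combination -h)
  · rw [siegel_apply _ huu (huz l), hub, hzb, hzz, hu, hz]
    simp [hcb, hb'c.symm, hcd]

variable {M : Subgroup (BigW t (dW k δ))}

/-- the Siegel parameters at `u` closed under scalars -/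
def WU (M : Subgroup (BigW t (dW k δ))) {u : (Fin t → Fin k) → F} (hu : wq (tw t (dW k δ)) u = 0) :
    Submodule F ((Fin t → Fin k) → F) where
  carrier := {z | ∀ l : F, l • z ∈ wSub M hu}
  add_mem' {a b} ha hb l := by rw [smul_add]; exact add_mem (ha l) (hb l)
  zero_mem' l := by rw [smul_zero]; exact zero_mem _
  smul_mem' a z hz l := by rw [smul_smul]; exact hz _

theorem mem_WU {u : (Fin t → Fin k) → F} {hu : wq (tw t (dW k δ)) u = 0} {z : (Fin t → Fin k) → F} :
    z ∈ WU M hu ↔ ∀ l : F, InW M u (l • z) := Iff.rfl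

theorem WU_move {u : (Fin t → Fin k) → F} {hu : wq (tw t (dW k δ)) u = 0} {g : BigW t (dW k δ)} (hg : g ∈ M)
    (hfix : g.1 u = u) {z : (Fin t → Fin k) → F} (hz : z ∈ WU M hu) : g.1 z ∈ WU M hu := by
  rw [mem_WU] at hz ⊢
  intro l
  have h := (hz l).conj hg
  rwa [hfix, map_smul] at h

/-- spreading along a line avoiding the support -/
theorem spread_line (C : Ctx t k δ M) {u : (Fin t → Fin k) → F} {hu : wq (tw t (dW k δ)) u = 0} {m : Fin t}
    {y : Fin t → Fin k} (hline : LineHas M m y) (hoff : ∀ e, u (Function.update y m e) = 0) {a : Fin k} (ha : W1 a)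
    (hy : Pi.single (Function.update y m a) (1 : F) ∈ WU M hu) (e : Fin k) :
    Pi.single (Function.update y m e) (1 : F) ∈ WU M hu := by
  classical
  have hk := C.ok
  have himg : ∀ x ∈ commutator (SmlW (dW k δ)), ∀ a', (lineVec m y (Pi.single a' 1)) ∈ WU M hu →
      lineVec m y (x.1 (Pi.single a' 1)) ∈ WU M hu := fun x hx a' ha' => by
    rw [lineVec_single] at ha'
    rw [← lineQ_oneI_single]
    refine WU_move (hline x hx) ?_ ha'
    funext p
    rw [lineQ_apply, oneI_apply]
    split_ifs with h
    · have e0 : (fun e => u (Function.update p m e)) = 0 := funext fun e => by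
        have : Function.update p m e = Function.update y m e := funext fun j => by
          rcases eq_or_ne j m with rfl | hj
          · simp
          · simp [hj, h j hj]
        rw [this]; exact hoff e
      have hp : u p = 0 := by simpa using congrFun e0 (p m)
      rw [e0, map_zero, hp]
      rfl
    · show u (Function.update p m (p m)) = u p
      rw [Function.update_eq_self]
  have hw1 : ∀ b, W1 b → lineVec m y (Pi.single b 1) ∈ WU M hu := by
    intro b hb
    have ha0 : lineVec m y (Pi.single a 1) ∈ WU M hu := by rw [lineVec_single]; exact hy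
    rcases eq_or_ne b a with rfl | hba
    · exact ha0
    obtain ⟨c, hc, hca, hcb⟩ := hk.exists_w1 a b
    obtain ⟨σ, hσ⟩ : ∃ σ : wperm (dW k δ), σ = ⁅(⟨Equiv.swap a c, swap_mem_wperm _ (by rw [dW_w1 δ ha, dW_w1 δ hc])⟩ :
        wperm (dW k δ)), ⟨Equiv.swap c b, swap_mem_wperm _ (by rw [dW_w1 δ hc, dW_w1 δ hb])⟩⁆ := ⟨_, rfl⟩
    have hσa : σ.1 a = b := by
      rw [hσ, commutatorElement_def]
      show (Equiv.swap a c * Equiv.swap c b * (Equiv.swap a c)⁻¹ * (Equiv.swap c b)⁻¹ : Equiv.Perm (Fin k)) a = b
      rw [Equiv.swap_inv, Equiv.swap_inv]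
      simp only [Equiv.Perm.mul_apply]
      rw [Equiv.swap_apply_of_ne_of_ne (Ne.symm hca) (Ne.symm hba), Equiv.swap_apply_left, Equiv.swap_apply_left,
        Equiv.swap_apply_of_ne_of_ne hba (Ne.symm hcb)]
    have h := himg (permW _ σ) (by
      rw [hσ, map_commutatorElement, commutator_def]
      exact Subgroup.commutator_mem_commutator (Subgroup.mem_top _) (Subgroup.mem_top _)) a ha0
    rwa [permW_single, hσa] at h
  rw [← lineVec_single]
  by_cases he : W1 e
  · exact hw1 e he
  obtain ⟨c, hc, hca, -⟩ := hk.exists_w1 a a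
  obtain ⟨X, hX, -, hXd, -⟩ := exists_mix hk hc ha hca
  have h := himg X hX a (hw1 a ha)
  have e1 : X.1 (Pi.single a 1) = (∑ b ∈ Finset.univ.filter W1, X.1 (Pi.single a 1) b • (Pi.single b 1 : Fin k → F)) +
      X.1 (Pi.single a 1) (dC hk.pos) • (Pi.single (dC hk.pos) 1 : Fin k → F) := funext fun l => by
    simp only [Pi.add_apply, Finset.sum_apply, Pi.smul_apply, Pi.single_apply, smul_eq_mul, mul_ite, mul_one,
      mul_zero, Finset.sum_ite_eq, Finset.mem_filter, Finset.mem_univ, true_and]
    by_cases hl : W1 l
    · rw [if_pos hl, if_neg (fun e' => (not_w1_iff hk.pos).2 e' hl), add_zero]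
    · rw [if_neg hl, if_pos ((not_w1_iff hk.pos).1 hl), (not_w1_iff hk.pos).1 hl, zero_add]
  rw [e1, map_add, map_sum, Submodule.add_mem_iff_right _ (Submodule.sum_mem _ fun b hb => by
    rw [map_smul]; exact Submodule.smul_mem _ _ (hw1 b (Finset.mem_filter.1 hb).2)), map_smul,
    Submodule.smul_mem_iff _ hXd] at h
  rwa [(not_w1_iff hk.pos).1 he]

/-- all Siegel transformations at a singular vector of one line with a free coordinate -/
theorem full_line (C : Ctx t k δ M) (hlines : ∀ i c, (∀ j, j ≠ i → W1 (c j)) → LineHas M i c) {i : Fin t}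
    {c : Fin t → Fin k} (hc : ∀ j, W1 (c j)) {u₀ : Fin k → F} (hu₀ : wq (dW k δ) u₀ = 0) (ha : u₀ (c i) = 0) :
    Full M (lineVec i c u₀) := by
  classical
  have hk := C.ok
  have hci : ∀ j, j ≠ i → W1 (c j) := fun j _ => hc j
  have hu : wq (tw t (dW k δ)) (lineVec i c u₀) = 0 := by rw [wq_lineVec hci, hu₀]
  -- inside the line
  have hin : ∀ z : Fin k → F, polar (wq (dW k δ)) u₀ z = 0 → lineVec i c z ∈ WU M hu := by
    intro z hz
    rw [mem_WU]
    intro l
    rw [← map_smul]
    have hz' : polar (wq (dW k δ)) u₀ (l • z) = 0 := by rw [QuadraticMap.polar_smul_right, hz, smul_zero]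
    have hp : polar (wq (tw t (dW k δ))) (lineVec i c u₀) (lineVec i c (l • z)) = 0 := by
      rw [polar_lineVec hci]
      simp only [lineVec_at]
      exact hz'
    refine ⟨hp, ?_⟩
    suffices e : lineQ i (oneI i c (siegel (wq (dW k δ)) u₀ (l • z))) =
        siegel (wq (tw t (dW k δ))) (lineVec i c u₀) (lineVec i c (l • z)) by
      rw [← e]; exact hlines i c hci _ (siegel_mem_commW hk.two hk.wne _ _)
    refine quadIsoms_ext _ fun y => funext fun p => ?_
    rw [lineQ_apply, oneI_apply, siegel_apply _ hu hp, polar_lineVec hci, polar_lineVec hci, wq_lineVec hci]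
    simp only [Pi.sub_apply, Pi.add_apply, Pi.smul_apply, lineVec_apply]
    split_ifs with h
    · have e : (fun a => y (Function.update p i a)) = fun a => y (Function.update c i a) := funext fun a => by
        congr 1
        funext j
        rcases eq_or_ne j i with rfl | hj
        · simp
        · simp [hj, h j hj]
      rw [e, siegel_apply _ hu₀ hz']
      simp only [Pi.sub_apply, Pi.add_apply, Pi.smul_apply]
      congr 2
      rw [show p = Function.update c i (p i) from funext fun j => by
        rcases eq_or_ne j i with rfl | hj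
        · simp
        · simp [hj, h j hj], Function.update_self]
    · show y (Function.update p i (p i)) = _
      rw [Function.update_eq_self]
      simp
  have hu0c : ∀ p : Fin t → Fin k, p i = c i → lineVec i c u₀ p = 0 := fun p hp => by
    rw [lineVec_apply]; split_ifs
    · rw [hp]; exact ha
    · rfl
  have hu0D : ∀ p : Fin t → Fin k, (∃ j, j ≠ i ∧ p j ≠ c j) → lineVec i c u₀ p = 0 := fun p ⟨j, hj, hpj⟩ => by
    rw [lineVec_apply, if_neg fun h => hpj (h j hj)]
  -- outer points of weight one off `i`
  have h1 : ∀ (J : Finset (Fin t)) (x : Fin t → Fin k), (∀ j, j ≠ i → W1 (x j)) → (∀ j, j ∉ J → j ≠ i → x j = c j) →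
      (∃ j, j ≠ i ∧ x j ≠ c j) → Pi.single x (1 : F) ∈ WU M hu := by
    intro J
    induction J using Finset.induction_on with
    | empty =>
      intro x _ hx hD
      obtain ⟨j, hj, hxj⟩ := hD
      exact absurd (hx j (Finset.notMem_empty j) hj) hxj
    | insert m J hmJ ih =>
      intro x hx1 hx hD
      by_cases hsame : m = i ∨ x m = c m
      · refine ih x hx1 (fun j hj hji => ?_) hD
        rcases eq_or_ne j m with rfl | hjm
        · exact hsame.resolve_left hji
        · exact hx j (by simp [hj, hjm]) hji
      rw [not_or] at hsame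
      obtain ⟨hmi, hxm⟩ := hsame
      obtain ⟨y, hy⟩ : ∃ y, y = Function.update (Function.update x i (c i)) m (c m) := ⟨_, rfl⟩
      have hyW : ∀ j, W1 (y j) := fun j => by
        rcases eq_or_ne j m with rfl | hjm
        · rw [hy, Function.update_self]; exact hc j
        rcases eq_or_ne j i with rfl | hji
        · rw [hy, Function.update_of_ne hjm, Function.update_self]; exact hc j
        · rw [hy, Function.update_of_ne hjm, Function.update_of_ne hji]; exact hx1 j hji
      have hyi : y i = c i := by rw [hy, Function.update_of_ne (Ne.symm hmi), Function.update_self]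
      have hyM : Pi.single y (1 : F) ∈ WU M hu := by
        by_cases hD' : ∃ j, j ≠ i ∧ y j ≠ c j
        · refine ih y (fun j _ => hyW j) (fun j hj hji => ?_) hD'
          rcases eq_or_ne j m with rfl | hjm
          · rw [hy, Function.update_self]
          · rw [hy, Function.update_of_ne hjm, Function.update_of_ne hji]
            exact hx j (by simp [hj, hjm]) hji
        · have e : y = Function.update c i (c i) := funext fun j => by
            rcases eq_or_ne j i with rfl | hji
            · rw [Function.update_self, hyi]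
            · rw [Function.update_of_ne hji]
              by_contra h
              exact hD' ⟨j, hji, h⟩
          rw [e, ← lineVec_single]
          refine hin _ ?_
          rw [polar_wq, Finset.sum_eq_single (c i) (fun a _ ha' => by simp [ha']) (by simp), ha]
          simp
      have hxi : Pi.single (Function.update x i (c i)) (1 : F) ∈ WU M hu := by
        have h := spread_line C (hlines m y fun j _ => hyW j) (fun e => hu0c _ (by
          rw [Function.update_of_ne (Ne.symm hmi), hyi])) (hyW m) (by rw [Function.update_eq_self]; exact hyM) (x m)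
        rwa [hy, Function.update_idem, show x m = Function.update x i (c i) m by rw [Function.update_of_ne hmi],
          Function.update_eq_self] at h
      have h := spread_line C (hlines i x hx1) (fun e => hu0D _ ⟨m, hmi, by rwa [Function.update_of_ne hmi]⟩) (hc i)
        hxi (x i)
      rwa [Function.update_eq_self] at h
  -- all outer points
  have h2 : ∀ (J : Finset (Fin t)) (x : Fin t → Fin k), (∀ j, j ∉ J → j ≠ i → W1 (x j)) →
      (∃ j, j ≠ i ∧ x j ≠ c j) → Pi.single x (1 : F) ∈ WU M hu := by
    intro J
    induction J using Finset.induction_on with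
    | empty =>
      intro x hx hD
      exact h1 Finset.univ x (fun j hj => hx j (Finset.notMem_empty j) hj)
        (fun j hj => absurd (Finset.mem_univ j) hj) hD
    | insert m J hmJ ih =>
      intro x hx hD
      by_cases hsame : m = i ∨ W1 (x m)
      · refine ih x (fun j hj hji => ?_) hD
        rcases eq_or_ne j m with rfl | hjm
        · exact hsame.resolve_left hji
        · exact hx j (by simp [hj, hjm]) hji
      rw [not_or] at hsame
      obtain ⟨hmi, hxm⟩ := hsame
      have hxd := (not_w1_iff hk.pos).1 hxm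
      have hrec : ∀ e, W1 e → e ≠ c m → Pi.single (Function.update x m e) (1 : F) ∈ WU M hu := by
        intro e he hec
        refine ih _ (fun j hj hji => ?_) ⟨m, hmi, by rwa [Function.update_self]⟩
        rcases eq_or_ne j m with rfl | hjm
        · rwa [Function.update_self]
        · rw [Function.update_of_ne hjm]; exact hx j (by simp [hj, hjm]) hji
      obtain ⟨b, hb, hbc, -⟩ := hk.exists_w1 (c m) (c m)
      obtain ⟨X, hX, hXc, hXd, hX0⟩ := exists_mix hk (hc m) hb hbc.symm
      have hfix : (slotQ m X).1 (lineVec i c u₀) = lineVec i c u₀ := by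
        funext p
        show (lineQ m (constI m X)).1 _ p = _
        rw [lineQ_apply]
        show X.1 (fun e => lineVec i c u₀ (Function.update p m e)) (p m) = _
        have e0 : (fun e => lineVec i c u₀ (Function.update p m e)) =
            lineVec i c u₀ (Function.update p m (c m)) • (Pi.single (c m) 1 : Fin k → F) := funext fun e => by
          rw [Pi.smul_apply, smul_eq_mul]
          rcases eq_or_ne e (c m) with rfl | he
          · simp
          · rw [Pi.single_eq_of_ne he, mul_zero]
            exact hu0D _ ⟨m, hmi, by rwa [Function.update_self]⟩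
        rw [e0, map_smul, hXc, ← e0]
        simp
      have h := WU_move (C.slot m X hX) hfix (hrec b hb hbc)
      have e1 : (slotQ m X).1 (Pi.single (Function.update x m b) 1) = lineVec m x (X.1 (Pi.single b 1)) := by
        funext p
        show (lineQ m (constI m X)).1 _ p = _
        rw [lineQ_apply]
        show X.1 (fun e => (Pi.single (Function.update x m b) (1 : F) : (Fin t → Fin k) → F) (Function.update p m e))
          (p m) = _
        have := congrFun (lineQ_oneI_single (w := dW k δ) m x X b) p
        rw [lineQ_apply, oneI_apply] at this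
        by_cases hp : ∀ j, j ≠ m → p j = x j
        · rw [if_pos hp] at this; exact this
        · rw [lineVec_apply, if_neg hp]
          have e0 : (fun e => (Pi.single (Function.update x m b) (1 : F) : (Fin t → Fin k) → F)
              (Function.update p m e)) = 0 := funext fun e => Pi.single_eq_of_ne (fun e' => hp fun j hj => by
            have := congrFun e' j
            rwa [Function.update_of_ne hj, Function.update_of_ne hj] at this) 1
          rw [e0, map_zero]; rfl
      rw [e1] at h
      have e2 : X.1 (Pi.single b 1) =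
          (∑ e ∈ Finset.univ.filter (fun e => W1 e ∧ e ≠ c m), X.1 (Pi.single b 1) e • (Pi.single e 1 : Fin k → F)) +
            X.1 (Pi.single b 1) (dC hk.pos) • (Pi.single (dC hk.pos) 1 : Fin k → F) := funext fun l => by
        simp only [Pi.add_apply, Finset.sum_apply, Pi.smul_apply, Pi.single_apply, smul_eq_mul, mul_ite, mul_one,
          mul_zero, Finset.sum_ite_eq, Finset.mem_filter, Finset.mem_univ, true_and]
        by_cases hl : W1 l
        · rw [if_neg (c := l = dC hk.pos) (fun e' => (not_w1_iff hk.pos).2 e' hl), add_zero]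
          split_ifs with hl'
          · rfl
          · rw [show l = c m by by_contra h'; exact hl' ⟨hl, h'⟩, hX0]
        · rw [if_neg (fun h' => hl h'.1), if_pos ((not_w1_iff hk.pos).1 hl), (not_w1_iff hk.pos).1 hl, zero_add]
      rw [e2, map_add, map_sum, Submodule.add_mem_iff_right _ (Submodule.sum_mem _ fun e he => by
        rw [map_smul, lineVec_single]
        exact Submodule.smul_mem _ _ (hrec e (Finset.mem_filter.1 he).2.1 (Finset.mem_filter.1 he).2.2)), map_smul,
        Submodule.smul_mem_iff _ hXd, lineVec_single, ← hxd, Function.update_eq_self] at h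
      exact h
  intro y hy
  have e : y = lineVec i c (fun a => y (Function.update c i a)) +
      ∑ p ∈ Finset.univ.filter (fun p : Fin t → Fin k => ¬ ∀ j, j ≠ i → p j = c j), y p • (Pi.single p 1 : (Fin t → Fin k) → F) :=
    funext fun q => by
      simp only [Pi.add_apply, Finset.sum_apply, Pi.smul_apply, Pi.single_apply, smul_eq_mul, mul_ite, mul_one,
        mul_zero, Finset.sum_ite_eq, Finset.mem_filter, Finset.mem_univ, true_and, lineVec_apply]
      by_cases hq : ∀ j, j ≠ i → q j = c j
      · rw [if_pos hq, if_neg (not_not.2 hq), add_zero]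
        congr 1
        funext j
        rcases eq_or_ne j i with rfl | hj
        · simp
        · simp [hj, hq j hj]
      · rw [if_neg hq, if_pos hq, zero_add]
  have hmem : y ∈ WU M hu := by
    rw [e]
    refine Submodule.add_mem _ (hin _ ?_) (Submodule.sum_mem _ fun p hp => Submodule.smul_mem _ _ ?_)
    · rw [← polar_lineVec hci]; exact hy
    · have hp' := (Finset.mem_filter.1 hp).2
      refine h2 Finset.univ p (fun j hj => absurd (Finset.mem_univ j) hj) ?_
      by_contra h
      exact hp' fun j hj => by by_contra h'; exact h ⟨j, hj, h'⟩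
  have := mem_WU.1 hmem 1
  rw [one_smul] at this
  exact this.2

/-- the commutator subgroup from the lines -/
theorem commutator_le (C : Ctx t k δ M) (hlines : ∀ i c, (∀ j, j ≠ i → W1 (c j)) → LineHas M i c) :
    commutator (BigW t (dW k δ)) ≤ M := by
  classical
  have hk := C.ok
  have h4 := hk.four_le
  obtain ⟨a, ha, -⟩ := hk.exists_w1 (dC hk.pos) (dC hk.pos)
  obtain ⟨b, hb, hba, -⟩ := hk.exists_w1 a a
  obtain ⟨b', hb', hb'a, hb'b⟩ := hk.exists_w1 a b
  obtain ⟨d, hd⟩ : ∃ d, d = dC hk.pos := ⟨_, rfl⟩
  have hnd : ∀ e, W1 e → e ≠ d := fun e he e' => (not_w1_iff hk.pos).2 (e'.trans hd) he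
  obtain ⟨s, r, hsr⟩ := exists_binary_eq hk.two (one_ne_zero (α := F)) one_ne_zero (-δ)
  simp only [one_mul] at hsr
  obtain ⟨i, hi⟩ : ∃ i : Fin t, i = ⟨0, by have := C.two_le; omega⟩ := ⟨_, rfl⟩
  obtain ⟨c, hc⟩ : ∃ c : Fin t → Fin k, c = fun _ => a := ⟨_, rfl⟩
  have hcW : ∀ j, W1 (c j) := fun j => by rw [hc]; exact ha
  obtain ⟨U, hU⟩ : ∃ U : F → F → Fin k → F, U = fun x y =>
      (Pi.single b x : Fin k → F) + Pi.single b' y + Pi.single d 1 := ⟨_, rfl⟩
  have hbd := hnd b hb
  have hb'd := hnd b' hb'
  have had := hnd a ha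
  have hp : ∀ x y (z : Fin k → F), polar (wq (dW k δ)) (U x y) z = 2 * (x * z b + y * z b' + δ * z d) := fun x y z => by
    rw [polar_wq, hU]
    congr 1
    simp [Pi.single_apply, add_mul, mul_add, Finset.sum_add_distrib, dW_w1 δ hb, dW_w1 δ hb']
    rw [hd, dW_dC δ hk.pos]
    exact Or.inl rfl
  have hq : ∀ x y, x * x + y * y = -δ → wq (dW k δ) (U x y) = 0 := fun x y hxy => by
    have h := hp x y (U x y)
    rw [QuadraticMap.polar_self, nsmul_eq_mul, Nat.cast_ofNat] at h
    rw [mul_left_cancel₀ hk.two h, hU]
    simp [hbd, hbd.symm, hb'd, hb'd.symm, hb'b, Ne.symm hb'b]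
    linear_combination hxy
  have hU0 : ∀ x y, U x y (c i) = 0 := fun x y => by
    rw [hc, hU]; simp [hba.symm, hb'a.symm, had]
  have hfull : ∀ x y, x * x + y * y = -δ → Full M (lineVec i c (U x y)) := fun x y hxy =>
    full_line C hlines hcW (hq x y hxy) (hU0 x y)
  have h5 : 5 ≤ Module.finrank F ((Fin t → Fin k) → F) := by
    rw [Module.finrank_fintype_fun_eq_card, Fintype.card_fun, Fintype.card_fin, Fintype.card_fin]
    have h1 : k ^ 2 ≤ k ^ t := Nat.pow_le_pow_right (by omega) C.two_le
    have h2 : 4 * 4 ≤ k * k := Nat.mul_le_mul h4 h4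
    rw [pow_two] at h1
    omega
  refine commutator_le_of_pair (wq_sep (tw_ne_zero hk.wne) hk.two) h5 (hfull s r hsr)
    (hfull (-s) (-r) (by linear_combination hsr)) (by rw [wq_lineVec fun j _ => hcW j, hq s r hsr])
    (by rw [wq_lineVec fun j _ => hcW j, hq (-s) (-r) (by linear_combination hsr)]) ?_
  rw [polar_lineVec fun j _ => hcW j]
  simp only [lineVec_at]
  rw [hp, hU]
  simp [hbd, hbd.symm, hb'd, hb'd.symm, hb'b, Ne.symm hb'b]
  refine ⟨hk.two, fun h => ?_⟩
  exact mul_ne_zero hk.two hk.ne (by linear_combination h + hsr)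

end CfsgLib.MaxSub.TPowE
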