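import Cfsg.Agent.Lib.MaxSub.TPow.BootShrink

/-!
Tensor powers of an orthogonal space with diagonal weights: the form, elements diagonal in all slots but one,
coordinate permutations.
-/

set_option autoImplicit false
set_option linter.unusedSectionVars false

namespace CfsgLib.MaxSub.TPowE

open Matrix CfsgLib.Classical CfsgLib.Geom CfsgLib.MaxSub
open QuadraticMap (polar)
open scoped Matrix MatrixGroups

section Weighted

variable {ι F : Type*} [Fintype ι] [DecidableEq ι] [Field F]

/-- the diagonal form with the weights `w` -/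
def wq (w : ι → F) : QuadraticForm F (ι → F) := QuadraticMap.weightedSumSquares F w

theorem wq_apply (w : ι → F) (x : ι → F) : wq w x = ∑ a, w a * (x a * x a) := by
  simp [wq]

theorem polar_wq (w : ι → F) (x y : ι → F) : polar (wq w) x y = 2 * ∑ a, w a * (x a * y a) := by
  show wq w (x + y) - wq w x - wq w y = _
  simp only [wq_apply, Pi.add_apply, Finset.mul_sum, ← Finset.sum_sub_distrib]
  exact Finset.sum_congr rfl fun a _ => by ring

theorem wq_sep {w : ι → F} (hw : ∀ a, w a ≠ 0) (h2 : (2 : F) ≠ 0) (x : ι → F)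
    (h : ∀ y, polar (wq w) x y = 0) : x = 0 := by
  funext a
  have h1 := h (Pi.single a 1)
  rw [polar_wq, Finset.sum_eq_single a (fun b _ hb => by simp [hb]) (by simp)] at h1
  simpa [h2, hw a] using h1

end Weighted

variable {t k : ℕ} {F : Type*} [Field F]

variable (t) in
/-- the weight of a coordinate of the tensor power -/
def tw (w : Fin k → F) : (Fin t → Fin k) → F := fun p => ∏ j, w (p j)

theorem tw_ne_zero {w : Fin k → F} (hw : ∀ a, w a ≠ 0) (p : Fin t → Fin k) : tw t w p ≠ 0 :=
  Finset.prod_ne_zero_iff.2 fun _ _ => hw _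

theorem tw_update (w : Fin k → F) (i : Fin t) (p : Fin t → Fin k) (a : Fin k) :
    tw t w (Function.update p i a) = w a * ∏ j ∈ Finset.univ.erase i, w (p j) := by
  rw [tw, ← Finset.mul_prod_erase _ _ (Finset.mem_univ i), Function.update_self]
  congr 1
  exact Finset.prod_congr rfl fun j hj => by rw [Function.update_of_ne (Finset.ne_of_mem_erase hj)]

/-- isometries of one slot -/
abbrev SmlW (w : Fin k → F) : Subgroup ((Fin k → F) ≃ₗ[F] (Fin k → F)) := quadIsoms (wq w)

variable (t) in
/-- isometries of the tensor power -/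
abbrev BigW (w : Fin k → F) : Subgroup (((Fin t → Fin k) → F) ≃ₗ[F] ((Fin t → Fin k) → F)) :=
  quadIsoms (wq (tw t w))

variable (t) in
/-- families of slot isometries depending only on the slots other than `i` -/
def indep (w : Fin k → F) (i : Fin t) : Subgroup ((Fin t → Fin k) → SmlW w) where
  carrier := {u | ∀ p a, u (Function.update p i a) = u p}
  one_mem' _ _ := rfl
  mul_mem' {u v} hu hv p a := by simp only [Pi.mul_apply, hu p a, hv p a]
  inv_mem' {u} hu p a := by simp only [Pi.inv_apply, hu p a]

variable {w : Fin k → F}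

theorem mem_indep {i : Fin t} {u : (Fin t → Fin k) → SmlW w} :
    u ∈ indep t w i ↔ ∀ p a, u (Function.update p i a) = u p := Iff.rfl

/-- `u p` on each line in direction `i` -/
def lineLin (i : Fin t) (u : (Fin t → Fin k) → SmlW w) :
    ((Fin t → Fin k) → F) →ₗ[F] ((Fin t → Fin k) → F) where
  toFun x p := (u p).1 (fun a => x (Function.update p i a)) (p i)
  map_add' x y := by
    funext p
    show (u p).1 (fun a => x _ + y _) _ = (u p).1 _ _ + (u p).1 _ _
    rw [← Pi.add_apply, ← map_add]
    rfl
  map_smul' c x := by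
    funext p
    show (u p).1 (fun a => c * x _) _ = c * (u p).1 _ _
    rw [← smul_eq_mul c ((u p).1 _ _), ← Pi.smul_apply, ← map_smul]
    rfl

theorem lineLin_apply (i : Fin t) (u : (Fin t → Fin k) → SmlW w) (x : (Fin t → Fin k) → F)
    (p : Fin t → Fin k) : lineLin i u x p = (u p).1 (fun a => x (Function.update p i a)) (p i) := rfl

theorem lineLin_mul {i : Fin t} (u : (Fin t → Fin k) → SmlW w) {v : (Fin t → Fin k) → SmlW w}
    (hv : v ∈ indep t w i) (x : (Fin t → Fin k) → F) :
    lineLin i (u * v) x = lineLin i u (lineLin i v x) := by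
  funext p
  simp only [lineLin_apply, Pi.mul_apply, Function.update_self, Function.update_idem, mem_indep.1 hv p]
  rfl

theorem lineLin_one (i : Fin t) (x : (Fin t → Fin k) → F) :
    lineLin i (1 : (Fin t → Fin k) → SmlW w) x = x := by
  funext p
  show x (Function.update p i (p i)) = x p
  rw [Function.update_eq_self]

theorem wq_lineLin {i : Fin t} {u : (Fin t → Fin k) → SmlW w} (hu : u ∈ indep t w i)
    (x : (Fin t → Fin k) → F) : wq (tw t w) (lineLin i u x) = wq (tw t w) x := by
  rw [wq_apply, wq_apply]
  refine TPow.sum_lines (i := i) _ _ fun p => ?_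
  have h := mem_quadIsoms.1 (u p).2 (fun a => x (Function.update p i a))
  rw [wq_apply, wq_apply] at h
  simp only [lineLin_apply, Function.update_self, Function.update_idem, mem_indep.1 hu p, tw_update,
    mul_comm (w _) (∏ j ∈ _, _), mul_assoc, ← Finset.mul_sum]
  exact congrArg _ h

/-- the elements diagonal in all slots but `i` -/
def lineQ (i : Fin t) : indep t w i →* BigW t w where
  toFun u := ⟨LinearEquiv.ofLinearMap (lineLin i u.1) (lineLin i (u⁻¹).1)
      (LinearMap.ext fun x => by
        show lineLin i u.1 (lineLin i (u⁻¹).1 x) = x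
        rw [← lineLin_mul _ (u⁻¹).2, Subgroup.coe_inv, mul_inv_cancel, lineLin_one])
      (LinearMap.ext fun x => by
        show lineLin i (u⁻¹).1 (lineLin i u.1 x) = x
        rw [← lineLin_mul _ u.2, Subgroup.coe_inv, inv_mul_cancel, lineLin_one]),
    mem_quadIsoms.2 fun x => wq_lineLin u.2 x⟩
  map_one' := quadIsoms_ext _ fun x => lineLin_one i x
  map_mul' u v := quadIsoms_ext _ fun x => lineLin_mul u.1 v.2 x

theorem lineQ_apply (i : Fin t) (u : indep t w i) (x : (Fin t → Fin k) → F) (p : Fin t → Fin k) :
    (lineQ i u).1 x p = (u.1 p).1 (fun a => x (Function.update p i a)) (p i) := rfl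

/-- the same element on every line in direction `i` -/
def constI (i : Fin t) : SmlW w →* indep t w i where
  toFun h := ⟨fun _ => h, fun _ _ => rfl⟩
  map_one' := rfl
  map_mul' _ _ := rfl

/-- slot elements -/
def slotQ (i : Fin t) : SmlW w →* BigW t w := (lineQ i).comp (constI i)

section Perm

variable {ι : Type*} [Fintype ι] [DecidableEq ι] (v : ι → F)

/-- the permutations preserving the weights -/
def wperm : Subgroup (Equiv.Perm ι) where
  carrier := {σ | ∀ a, v (σ a) = v a}
  one_mem' _ := rfl
  mul_mem' {σ τ} hσ hτ a := by rw [Equiv.Perm.mul_apply, hσ, hτ]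
  inv_mem' {σ} hσ a := by rw [← hσ (σ⁻¹ a)]; simp

/-- coordinate permutations as isometries -/
def permW : wperm v →* quadIsoms (wq v) where
  toFun σ := ⟨LinearEquiv.funCongrLeft F F σ.1.symm, mem_quadIsoms.2 fun x => by
    rw [wq_apply, wq_apply, ← Equiv.sum_comp σ.1.symm (fun a => v a * (x a * x a))]
    refine Finset.sum_congr rfl fun a _ => ?_
    have h := σ.2 (σ.1.symm a)
    rw [Equiv.apply_symm_apply] at h
    rw [← h]
    rfl⟩
  map_one' := quadIsoms_ext _ fun x => rfl
  map_mul' σ τ := quadIsoms_ext _ fun x => rfl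

theorem permW_apply (σ : wperm v) (x : ι → F) (a : ι) : (permW v σ).1 x a = x (σ.1.symm a) := rfl

theorem permW_single (σ : wperm v) (a : ι) (c : F) :
    (permW v σ).1 (Pi.single a c) = Pi.single (σ.1 a) c := by
  funext l
  rw [permW_apply, Pi.single_apply, Pi.single_apply]
  simp only [Equiv.symm_apply_eq]

theorem swap_mem_wperm {a b : ι} (h : v a = v b) : Equiv.swap a b ∈ wperm v := fun l => by
  rcases eq_or_ne l a with rfl | h1
  · rw [Equiv.swap_apply_left, h]
  rcases eq_or_ne l b with rfl | h2
  · rw [Equiv.swap_apply_right, h]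
  rw [Equiv.swap_apply_of_ne_of_ne h1 h2]

end Perm

end CfsgLib.MaxSub.TPowE
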