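import Cfsg.Agent.Lib.MaxSub.TPowE.SlotOmega

/-!
An element diagonal in all slots but one, scalar over one point and not over another, gives the commutator
subgroup of every coordinate line whose fixed coordinates have weight one.
-/

set_option autoImplicit false
set_option linter.unusedSectionVars false

namespace CfsgLib.MaxSub.TPowE

open Matrix CfsgLib.Classical CfsgLib.Geom CfsgLib.MaxSub
open QuadraticMap (polar)
open scoped Matrix MatrixGroups commutatorElement

variable {t k : ℕ} {F : Type*} [Field F] [Fintype F] {δ : F}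

/-- what the boot step uses of an overgroup of the base -/
structure Ctx (t k : ℕ) (δ : F) (M : Subgroup (BigW t (dW k δ))) : Prop where
  ok : SlotOk k δ
  two_le : 2 ≤ t
  slot : ∀ (i : Fin t), ∀ x ∈ commutator (SmlW (dW k δ)), slotQ i x ∈ M
  pair : ∀ (i j : Fin t) (u v : Fin k → F) (hu : wq (dW k δ) u ≠ 0) (hv : wq (dW k δ) v ≠ 0),
    slotQ i ⟨reflEquiv (wq (dW k δ)) u hu, reflEquiv_mem _ u hu⟩ *
      slotQ j ⟨reflEquiv (wq (dW k δ)) v hv, reflEquiv_mem _ v hv⟩ ∈ M
  perm : ∀ σ ∈ commutator (Equiv.Perm (Fin t)), permW (tw t (dW k δ)) (slotPerm σ) ∈ M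

/-- a scalar -/
def Sc {w : Fin k → F} (x : SmlW w) : Prop := ∃ c : F, ∀ v, x.1 v = c • v

theorem Sc.comm {w : Fin k → F} {x : SmlW w} (h : Sc x) (y : SmlW w) : Commute x y := by
  obtain ⟨c, hc⟩ := h
  exact quadIsoms_ext _ fun v => by
    show x.1 (y.1 v) = y.1 (x.1 v)
    rw [hc, hc, map_smul]

theorem sc_one {w : Fin k → F} : Sc (1 : SmlW w) := ⟨1, fun v => (one_smul F v).symm⟩

theorem Sc.mul {w : Fin k → F} {x y : SmlW w} (hx : Sc x) (hy : Sc y) : Sc (x * y) := by
  obtain ⟨c, hc⟩ := hx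
  obtain ⟨d, hd⟩ := hy
  exact ⟨c * d, fun v => by show x.1 (y.1 v) = _; rw [hd, hc, smul_smul]⟩

/-- closed in the direction `i` -/
def Sat (i : Fin t) (T : Finset (Fin t → Fin k)) : Prop := ∀ p a, Function.update p i a ∈ T ↔ p ∈ T

/-- `x` on the lines of `T`, trivial elsewhere -/
def setI {w : Fin k → F} {i : Fin t} {T : Finset (Fin t → Fin k)} (hT : Sat i T) : SmlW w →* indep t w i where
  toFun h := ⟨fun p => if p ∈ T then h else 1, fun p a => by simp only [hT p a]⟩
  map_one' := Subtype.ext (funext fun p => by simp)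
  map_mul' g h := Subtype.ext (funext fun p => by
    show (if _ then g * h else 1) = (if _ then g else 1) * (if _ then h else 1)
    split_ifs <;> simp)

theorem setI_apply {w : Fin k → F} {i : Fin t} {T : Finset (Fin t → Fin k)} (hT : Sat i T) (x : SmlW w)
    (p : Fin t → Fin k) : (setI hT x).1 p = if p ∈ T then x else 1 := rfl

/-- `M` contains the commutator subgroup on the lines of `T` simultaneously -/
def Has (M : Subgroup (BigW t (dW k δ))) (i : Fin t) (T : Finset (Fin t → Fin k)) : Prop :=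
  ∃ hT : Sat i T, ∀ x ∈ commutator (SmlW (dW k δ)), lineQ i (setI hT x) ∈ M

variable {M : Subgroup (BigW t (dW k δ))}

/-- the commutators of the commutator subgroup fill it -/
theorem omega_le_of_comm (hk : SlotOk k δ) {H : Subgroup (SmlW (dW k δ))}
    (h : ∀ x ∈ commutator (SmlW (dW k δ)), ∀ y ∈ commutator (SmlW (dW k δ)), ⁅x, y⁆ ∈ H) :
    commutator (SmlW (dW k δ)) ≤ H := by
  have e : ⁅commutator (SmlW (dW k δ)), commutator (SmlW (dW k δ))⁆ = commutator (SmlW (dW k δ)) := by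
    rw [← Subgroup.map_subtype_commutator, omega_perfect hk, ← MonoidHom.range_eq_map, Subgroup.range_subtype]
  rw [← e]
  exact Subgroup.commutator_le.2 h

/-- the centraliser modulo scalars is scalar -/
theorem sc_of_comm_sc (hk : SlotOk k δ) {z : SmlW (dW k δ)}
    (h : ∀ x ∈ commutator (SmlW (dW k δ)), Sc (z * x * z⁻¹ * x⁻¹)) : Sc z := by
  refine scalar_of_commute hk fun y hy => ?_
  have hle : commutator (SmlW (dW k δ)) ≤ Subgroup.centralizer {z} := omega_le_of_comm hk fun a ha b hb => by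
    rw [Subgroup.mem_centralizer_singleton_iff]
    obtain ⟨c, hc⟩ : ∃ c, c = z * a * z⁻¹ * a⁻¹ := ⟨_, rfl⟩
    obtain ⟨d, hd⟩ : ∃ d, d = z * b * z⁻¹ * b⁻¹ := ⟨_, rfl⟩
    have hcs : Sc c := hc ▸ h a ha
    have hds : Sc d := hd ▸ h b hb
    have ea : z * a * z⁻¹ = c * a := by rw [hc]; group
    have eb : z * b * z⁻¹ = d * b := by rw [hd]; group
    have e : z * ⁅a, b⁆ * z⁻¹ = ⁅a, b⁆ := by
      calc z * ⁅a, b⁆ * z⁻¹ = ⁅z * a * z⁻¹, z * b * z⁻¹⁆ := by
            rw [commutatorElement_def, commutatorElement_def]; group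
        _ = ⁅c * a, d * b⁆ := by rw [ea, eb]
        _ = c * (a * d) * b * (a⁻¹ * c⁻¹) * (b⁻¹ * d⁻¹) := by rw [commutatorElement_def]; group
        _ = c * (d * a) * b * (c⁻¹ * a⁻¹) * (d⁻¹ * b⁻¹) := by
            rw [(hds.comm a).eq, ← ((hcs.comm a).inv_inv).eq, ← ((hds.comm b).inv_inv).eq]
        _ = (c * d) * (a * b) * c⁻¹ * a⁻¹ * d⁻¹ * b⁻¹ := by group
        _ = (a * b) * (c * d) * c⁻¹ * a⁻¹ * d⁻¹ * b⁻¹ := by rw [((hcs.mul hds).comm (a * b)).eq]
        _ = a * b * (c * d * c⁻¹) * a⁻¹ * d⁻¹ * b⁻¹ := by group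
        _ = a * b * d * (a⁻¹ * d⁻¹) * b⁻¹ := by rw [(hcs.comm d).eq]; group
        _ = a * b * d * (d⁻¹ * a⁻¹) * b⁻¹ := by rw [((hds.comm a).inv_inv).eq]
        _ = ⁅a, b⁆ := by rw [commutatorElement_def]; group
    exact (mul_inv_eq_iff_eq_mul.1 e).symm
  exact (Subgroup.mem_centralizer_singleton_iff.1 (hle hy))

theorem sc_comm_absorb {w : Fin k → F} {a a' b b' : SmlW w} (ha : Sc (a⁻¹ * a')) (hb : Sc (b⁻¹ * b')) :
    ⁅a', b'⁆ = ⁅a, b⁆ := by
  obtain ⟨c, hc⟩ : ∃ c, c = a⁻¹ * a' := ⟨_, rfl⟩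
  obtain ⟨d, hd⟩ : ∃ d, d = b⁻¹ * b' := ⟨_, rfl⟩
  rw [← hc] at ha
  rw [← hd] at hb
  have ea : a' = a * c := by rw [hc]; group
  have eb : b' = b * d := by rw [hd]; group
  rw [ea, eb, commutatorElement_def, commutatorElement_def]
  calc a * c * (b * d) * (a * c)⁻¹ * (b * d)⁻¹ = a * (c * b) * (d * c⁻¹) * a⁻¹ * d⁻¹ * b⁻¹ := by group
    _ = a * (b * c) * (c⁻¹ * d) * a⁻¹ * d⁻¹ * b⁻¹ := by rw [(ha.comm b).eq, (hb.comm c⁻¹).eq]
    _ = a * b * (d * a⁻¹) * d⁻¹ * b⁻¹ := by group
    _ = a * b * (a⁻¹ * d) * d⁻¹ * b⁻¹ := by rw [(hb.comm a⁻¹).eq]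
    _ = a * b * a⁻¹ * b⁻¹ := by group

/-- two such sets meet in a third -/
theorem Has.inter (C : Ctx t k δ M) {i : Fin t} {T S : Finset (Fin t → Fin k)} (hT : Has M i T) (hS : Has M i S) :
    Has M i (T ∩ S) := by
  classical
  obtain ⟨sT, hT⟩ := hT
  obtain ⟨sS, hS⟩ := hS
  have hs : Sat i (T ∩ S) := fun p a => by simp only [Finset.mem_inter, sT p a, sS p a]
  refine ⟨hs, fun x hx => ?_⟩
  refine omega_le_of_comm C.ok (H := M.comap ((lineQ i).comp (setI hs))) (fun a ha b hb => ?_) hx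
  rw [Subgroup.mem_comap, MonoidHom.comp_apply]
  have e : setI hs ⁅a, b⁆ = ⁅setI sT a, setI sS b⁆ := Subtype.ext (funext fun p => by
    show (if p ∈ T ∩ S then ⁅a, b⁆ else 1) = ⁅(if p ∈ T then a else 1), (if p ∈ S then b else 1)⁆
    by_cases h : p ∈ T <;> by_cases h' : p ∈ S <;> simp [h, h', commutatorElement_def])
  rw [e, map_commutatorElement, commutatorElement_def]
  exact mul_mem (mul_mem (mul_mem (hT a ha) (hS b hb)) (inv_mem (hT a ha))) (inv_mem (hS b hb))

/-- the values which are not scalar -/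
noncomputable def NS {w : Fin k → F} {i : Fin t} (u : indep t w i) : Finset (Fin t → Fin k) :=
  haveI : DecidablePred fun p => ¬ Sc (u.1 p) := Classical.decPred _
  Finset.univ.filter fun p => ¬ Sc (u.1 p)

theorem mem_NS {w : Fin k → F} {i : Fin t} {u : indep t w i} {p : Fin t → Fin k} : p ∈ NS u ↔ ¬ Sc (u.1 p) := by
  simp [NS]

/-- a witness gives a set through any point where it is not scalar -/
theorem has_at (C : Ctx t k δ M) {i : Fin t} {u : indep t (dW k δ) i} (hu : lineQ i u ∈ M) {b : Fin t → Fin k}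
    (hb : ¬ Sc (u.1 b)) : ∃ T, Has M i T ∧ b ∈ T ∧ ∀ p ∈ T, ¬ Sc (u.1 p) := by
  classical
  have hk := C.ok
  -- commutators with slot elements
  have hcM : ∀ (v : indep t (dW k δ) i) (x : SmlW (dW k δ)), lineQ i v ∈ M → x ∈ commutator (SmlW (dW k δ)) →
      lineQ i (v * constI i x * v⁻¹ * (constI i x)⁻¹) ∈ M := fun v x hv hx => by
    rw [map_mul, map_mul, map_mul, map_inv, map_inv]
    exact mul_mem (mul_mem (mul_mem hv (C.slot i x hx)) (inv_mem hv)) (inv_mem (C.slot i x hx))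
  have hex : ∀ z : SmlW (dW k δ), ¬ Sc z → ∃ x ∈ commutator (SmlW (dW k δ)), ¬ Sc (z * x * z⁻¹ * x⁻¹) := by
    intro z hz
    by_contra h
    push Not at h
    exact hz (sc_of_comm_sc hk h)
  have hkill : ∀ (z x : SmlW (dW k δ)), Sc z → z * x * z⁻¹ * x⁻¹ = 1 := fun z x hz => by
    rw [(hz.comm x).eq]; group
  obtain ⟨P, hPd⟩ : ∃ P : indep t (dW k δ) i → Prop, ∀ v, P v ↔ (lineQ i v ∈ M ∧
      (∀ p, v.1 p ∈ commutator (SmlW (dW k δ))) ∧ (∀ p, Sc (u.1 p) → v.1 p = 1) ∧ ¬ Sc (v.1 b)) :=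
    ⟨fun v => _, fun v => Iff.rfl⟩
  have hP : ∃ n, ∃ v, P v ∧ (NS v).card = n := by
    obtain ⟨x, hx, hxb⟩ := hex _ hb
    exact ⟨_, u * constI i x * u⁻¹ * (constI i x)⁻¹, (hPd _).2 ⟨hcM u x hu hx,
      fun p => Subgroup.commutator_mem_commutator (Subgroup.mem_top _) (Subgroup.mem_top _),
      fun p hp => hkill _ x hp, hxb⟩, rfl⟩
  obtain ⟨v, hv, hvn⟩ := Nat.find_spec hP
  have hmin : ∀ w, P w → (NS v).card ≤ (NS w).card := fun w hw => by
    rw [hvn]; exact Nat.find_min' hP ⟨w, hw, rfl⟩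
  obtain ⟨hvM, hvΩ, hv1, hvb⟩ := (hPd v).1 hv
  obtain ⟨x, hx, hxb⟩ := hex _ hvb
  obtain ⟨v', hv'd⟩ : ∃ v', v' = v * constI i x * v⁻¹ * (constI i x)⁻¹ := ⟨_, rfl⟩
  have hv'p : ∀ p, v'.1 p = v.1 p * x * (v.1 p)⁻¹ * x⁻¹ := fun p => by rw [hv'd]; rfl
  have hv'P : P v' := (hPd v').2 ⟨hv'd ▸ hcM v x hvM hx,
    fun p => hv'p p ▸ mul_mem (mul_mem (mul_mem (hvΩ p) hx) (inv_mem (hvΩ p))) (inv_mem hx),
    fun p hp => by rw [hv'p, hv1 p hp]; group, hv'p b ▸ hxb⟩
  obtain ⟨T, hTd⟩ : ∃ T, T = NS v := ⟨_, rfl⟩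
  have hT' : NS v' = T := by
    rw [hTd]
    refine Finset.eq_of_subset_of_card_le (fun p hp => ?_) (hmin v' hv'P)
    rw [mem_NS] at hp ⊢
    exact fun h => hp (by rw [hv'p, hkill _ x h]; exact sc_one)
  have hv'1 : ∀ p ∉ T, v'.1 p = 1 := fun p hp => by
    rw [hTd, mem_NS, not_not] at hp
    rw [hv'p, hkill _ x hp]
  have hsat : Sat i T := fun p a => by rw [hTd, mem_NS, mem_NS, mem_indep.1 v.2]
  have hTu : ∀ p ∈ T, ¬ Sc (u.1 p) := fun p hp h => by
    rw [hTd, mem_NS] at hp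
    exact hp (by rw [hv1 p h]; exact sc_one)
  have hbT : b ∈ T := by rw [hTd, mem_NS]; exact hvb
  obtain ⟨S, hS⟩ : ∃ S : Subgroup (indep t (dW k δ) i), ∀ w, w ∈ S ↔
      lineQ i w ∈ M ∧ (∀ p, w.1 p ∈ commutator (SmlW (dW k δ))) ∧ ∀ p ∉ T, w.1 p = 1 :=
    ⟨{ carrier := {w | lineQ i w ∈ M ∧ (∀ p, w.1 p ∈ commutator (SmlW (dW k δ))) ∧ ∀ p ∉ T, w.1 p = 1}
       one_mem' := ⟨by rw [map_one]; exact one_mem M, fun p => one_mem _, fun p _ => rfl⟩
       mul_mem' := fun {a b} ha hb => ⟨by rw [map_mul]; exact mul_mem ha.1 hb.1,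
         fun p => mul_mem (ha.2.1 p) (hb.2.1 p), fun p hp => by
           show a.1 p * b.1 p = 1
           rw [ha.2.2 p hp, hb.2.2 p hp, one_mul]⟩
       inv_mem' := fun {a} ha => ⟨by rw [map_inv]; exact inv_mem ha.1, fun p => inv_mem (ha.2.1 p),
         fun p hp => by show (a.1 p)⁻¹ = 1; rw [ha.2.2 p hp, inv_one]⟩ }, fun w => Iff.rfl⟩
  have hconj : ∀ y ∈ commutator (SmlW (dW k δ)), ∀ w ∈ S, constI i y * w * (constI i y)⁻¹ ∈ S := fun y hy w hw => by
    obtain ⟨h1, h2', h3⟩ := (hS w).1 hw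
    refine (hS _).2 ⟨?_, fun p => ?_, fun p hp => ?_⟩
    · rw [map_mul, map_mul, map_inv]
      exact mul_mem (mul_mem (C.slot i y hy) h1) (inv_mem (C.slot i y hy))
    · show y * w.1 p * y⁻¹ ∈ _
      exact mul_mem (mul_mem hy (h2' p)) (inv_mem hy)
    · show y * w.1 p * y⁻¹ = 1
      rw [h3 p hp]; group
  have hv'S : v' ∈ S := (hS v').2 ⟨((hPd v').1 hv'P).1, ((hPd v').1 hv'P).2.1, hv'1⟩
  let ev : (Fin t → Fin k) → S →* SmlW (dW k δ) := fun d =>
    { toFun := fun w => w.1.1 d, map_one' := rfl, map_mul' := fun _ _ => rfl }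
  have htop : ∀ d ∈ T, ∀ z ∈ commutator (SmlW (dW k δ)), ∃ w ∈ S, w.1 d = z := by
    intro d hd z hz
    have h : (ev d).range = commutator (SmlW (dW k δ)) := by
      refine values_top hk (fun z hz => ?_) (fun y hy x hx => ?_) ⟨⟨v', hv'S⟩, rfl⟩ ?_
      · obtain ⟨w, rfl⟩ := hz; exact ((hS w.1).1 w.2).2.1 d
      · obtain ⟨w, rfl⟩ := hx; exact ⟨⟨_, hconj y hy w.1 w.2⟩, rfl⟩
      · exact mem_NS.1 (hT' ▸ hd)
    obtain ⟨w, hw⟩ := h ▸ hz
    exact ⟨w.1, w.2, hw⟩
  have hker : ∀ w ∈ S, ∀ d ∈ T, Sc (w.1 d) → Sc (w.1 b) := by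
    intro w hw d hd hwd
    by_contra hwb
    obtain ⟨h1, h2', h3⟩ := (hS w).1 hw
    have hle := hmin w ((hPd w).2 ⟨h1, h2', fun p hp => h3 p fun hpT => hTu p hpT hp, hwb⟩)
    rw [← hTd] at hle
    have hlt : (NS w).card < T.card := Finset.card_lt_card ⟨fun p hp => by
      by_contra h
      exact mem_NS.1 hp (by rw [h3 p h]; exact sc_one), fun h => mem_NS.1 (h hd) hwd⟩
    omega
  have hsame : ∀ w ∈ S, ∀ d ∈ T, Sc ((w.1 d)⁻¹ * w.1 b) := by
    intro w hw d hd
    refine sc_of_comm_sc hk fun ζ hζ => ?_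
    obtain ⟨z, hz, rfl⟩ := htop b hbT ζ hζ
    obtain ⟨y, hy⟩ : ∃ y, y = w.1 d := ⟨_, rfl⟩
    obtain ⟨e, hed⟩ : ∃ e, e = w * z * w⁻¹ * (constI i y * z * (constI i y)⁻¹)⁻¹ := ⟨_, rfl⟩
    have he : e ∈ S := hed ▸ mul_mem (mul_mem (mul_mem hw hz) (inv_mem hw))
      (inv_mem (hconj y (hy ▸ ((hS w).1 hw).2.1 d) z hz))
    have hed' : ∀ p, e.1 p = w.1 p * z.1 p * (w.1 p)⁻¹ * (y * z.1 p * y⁻¹)⁻¹ := fun p => by rw [hed]; rfl
    have h := hker e he d hd (by rw [hed', hy]; convert sc_one (w := dW k δ) using 1; group)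
    rw [hed'] at h
    rw [← hy]
    have e1 : y⁻¹ * w.1 b * z.1 b * (y⁻¹ * w.1 b)⁻¹ * (z.1 b)⁻¹ =
        y⁻¹ * (w.1 b * z.1 b * (w.1 b)⁻¹ * (y * z.1 b * y⁻¹)⁻¹) * y := by group
    rw [e1]
    rw [mul_assoc, (h.comm y).eq, inv_mul_cancel_left]
    exact h
  refine ⟨T, ⟨hsat, fun x hx => ?_⟩, hbT, hTu⟩
  refine omega_le_of_comm hk (H := M.comap ((lineQ i).comp (setI hsat))) (fun a ha c hc => ?_) hx
  rw [Subgroup.mem_comap, MonoidHom.comp_apply]
  obtain ⟨wa, hwa, rfl⟩ := htop b hbT a ha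
  obtain ⟨wc, hwc, rfl⟩ := htop b hbT c hc
  have e : setI hsat ⁅wa.1 b, wc.1 b⁆ = ⁅wa, wc⁆ := Subtype.ext (funext fun p => by
    show (if p ∈ T then ⁅wa.1 b, wc.1 b⁆ else 1) = ⁅wa.1 p, wc.1 p⁆
    split_ifs with hp
    · exact sc_comm_absorb (hsame wa hwa p hp) (hsame wc hwc p hp)
    · rw [((hS wa).1 hwa).2.2 p hp, ((hS wc).1 hwc).2.2 p hp, commutatorElement_def]; group)
  rw [e, map_commutatorElement, commutatorElement_def]
  exact mul_mem (mul_mem (mul_mem ((hS wa).1 hwa).1 ((hS wc).1 hwc).1) (inv_mem ((hS wa).1 hwa).1))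
    (inv_mem ((hS wc).1 hwc).1)

/-- a diagonal isometry -/
def diagI {w : Fin k → F} (ε : Fin k → F) (hε : ∀ a, ε a * ε a = 1) : SmlW w :=
  ⟨LinearEquiv.ofLinearMap
    { toFun := fun x a => ε a * x a, map_add' := fun x y => funext fun a => mul_add _ _ _,
      map_smul' := fun c x => funext fun a => mul_left_comm _ _ _ }
    { toFun := fun x a => ε a * x a, map_add' := fun x y => funext fun a => mul_add _ _ _,
      map_smul' := fun c x => funext fun a => mul_left_comm _ _ _ }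
    (LinearMap.ext fun x => funext fun a => by
      show ε a * (ε a * x a) = x a
      rw [← mul_assoc, hε, one_mul])
    (LinearMap.ext fun x => funext fun a => by
      show ε a * (ε a * x a) = x a
      rw [← mul_assoc, hε, one_mul]), mem_quadIsoms.2 fun x => by
      rw [wq_apply, wq_apply]
      refine Finset.sum_congr rfl fun a _ => ?_
      show w a * (ε a * x a * (ε a * x a)) = _
      rw [mul_mul_mul_comm (ε a), hε, one_mul]⟩

theorem diagI_apply {w : Fin k → F} (ε : Fin k → F) (hε : ∀ a, ε a * ε a = 1) (x : Fin k → F) (a : Fin k) :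
    (diagI (w := w) ε hε).1 x a = ε a * x a := rfl

/-- from slot `i` to slot `m`, one coordinate of slot `i` fixed -/
theorem convert_slot (C : Ctx t k δ M) {i : Fin t} {T : Finset (Fin t → Fin k)} (hT : Has M i T) {m : Fin t}
    (hm : m ≠ i) {p : Fin t → Fin k} (ha : W1 (p i)) (h1 : ∃ c, Function.update p m c ∈ T)
    (h0 : ∃ c, Function.update p m c ∉ T) :
    ∃ T', Has M m T' ∧ p ∈ T' ∧ ∀ q ∈ T', q i = p i ∧ (∃ c, Function.update q m c ∈ T) ∧
      ∃ c, Function.update q m c ∉ T := by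
  classical
  have hk := C.ok
  obtain ⟨sT, hT⟩ := hT
  have key : ∀ b, W1 b → b ≠ p i → ∃ T', Has M m T' ∧ p ∈ T' ∧ ∀ q ∈ T', (q i = p i ∨ q i = b) ∧
      (∃ c, Function.update q m c ∈ T) ∧ ∃ c, Function.update q m c ∉ T := by
    intro b hb hba
    obtain ⟨ε, hεd⟩ : ∃ ε : (Fin t → Fin k) → Fin k → F,
        ε = fun q c => if (q i = p i ∨ q i = b) ∧ Function.update q m c ∈ T then -1 else 1 := ⟨_, rfl⟩
    have hε : ∀ q c, ε q c * ε q c = 1 := fun q c => by rw [hεd]; simp only; split_ifs <;> simp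
    have hεi : ∀ q a, ε (Function.update q m a) = ε q := fun q a => by
      rw [hεd]; funext c
      simp only [Function.update_idem, Function.update_of_ne hm.symm]
    obtain ⟨v, hv⟩ : ∃ v : indep t (dW k δ) m, ∀ q, v.1 q = diagI (ε q) (hε q) :=
      ⟨⟨fun q => diagI (ε q) (hε q), fun q a => by simp only [hεi]⟩, fun q => rfl⟩
    have he : lineQ m v = lineQ i (setI sT (rC hk.wne (p i) * rC hk.wne b)) := quadIsoms_ext _ fun x => funext fun q => by
      rw [lineQ_apply, lineQ_apply, hv, diagI_apply, Function.update_eq_self, setI_apply, hεd]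
      simp only [Function.update_eq_self]
      by_cases hq : q ∈ T
      · rw [if_pos hq]
        show _ = (rC hk.wne (p i)).1 ((rC hk.wne b).1 fun a => x (Function.update q i a)) (q i)
        rw [rC_apply, rC_apply]
        simp only [hq, and_true, Function.update_eq_self]
        by_cases h1 : q i = p i <;> by_cases h2 : q i = b
        · exact absurd (h2.symm.trans h1) hba
        all_goals simp [h1, h2, hba, Ne.symm hba]
      · rw [if_neg hq]
        simp [hq]
    have hmem : lineQ m v ∈ M := he ▸ hT _ (flip_mem_commutator hk.wne (Ne.symm hba)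
      (by rw [dW_w1 δ ha, dW_w1 δ hb]))
    have hns : ∀ q, ¬ Sc (v.1 q) → (q i = p i ∨ q i = b) ∧
        (∃ c, Function.update q m c ∈ T) ∧ ∃ c, Function.update q m c ∉ T := by
      intro q hq
      by_contra hcon
      refine hq ?_
      rw [hv]
      by_cases hi : q i = p i ∨ q i = b
      · by_cases hall : ∀ c, Function.update q m c ∈ T
        · exact ⟨-1, fun x => funext fun c => by rw [diagI_apply, hεd]; simp [hi, hall c]⟩
        · push Not at hall
          refine ⟨1, fun x => funext fun c => ?_⟩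
          rw [diagI_apply, hεd]
          have : Function.update q m c ∉ T := fun h => hcon ⟨hi, ⟨c, h⟩, hall⟩
          simp [this]
      · exact ⟨1, fun x => funext fun c => by rw [diagI_apply, hεd]; simp [hi]⟩
    have hp : ¬ Sc (v.1 p) := by
      rintro ⟨l, hl⟩
      obtain ⟨c₁, hc₁⟩ := h1
      obtain ⟨c₀, hc₀⟩ := h0
      have e1 := congrFun (hl (Pi.single c₁ 1)) c₁
      have e0 := congrFun (hl (Pi.single c₀ 1)) c₀
      rw [hv, diagI_apply, hεd] at e1 e0
      simp [hc₁, hc₀] at e1 e0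
      exact hk.two (by linear_combination e0 - e1)
    obtain ⟨T', hT', hpT, hTs⟩ := has_at C hmem hp
    exact ⟨T', hT', hpT, fun q hq => hns q (hTs q hq)⟩
  obtain ⟨b, hb, hba, -⟩ := hk.exists_w1 (p i) (p i)
  obtain ⟨b', hb', hb'a, hb'b⟩ := hk.exists_w1 (p i) b
  obtain ⟨T1, hT1, hp1, hq1⟩ := key b hb hba
  obtain ⟨T2, hT2, hp2, hq2⟩ := key b' hb' hb'a
  refine ⟨T1 ∩ T2, hT1.inter C hT2, Finset.mem_inter.2 ⟨hp1, hp2⟩, fun q hq => ?_⟩
  rw [Finset.mem_inter] at hq
  refine ⟨?_, (hq1 q hq.1).2⟩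
  rcases (hq1 q hq.1).1 with h | h
  · exact h
  · exact (hq2 q hq.2).1.resolve_right fun e => hb'b (e.symm.trans h)

theorem permW_slotPerm_apply {w : Fin k → F} (σ : Equiv.Perm (Fin t)) (x : (Fin t → Fin k) → F)
    (p : Fin t → Fin k) : (permW (tw t w) (slotPerm σ)).1 x p = x (p ∘ σ) := rfl

/-- permuting the slots -/
theorem Has.perm (C : Ctx t k δ M) {i : Fin t} {T : Finset (Fin t → Fin k)} (hT : Has M i T)
    {σ : Equiv.Perm (Fin t)} (hσ : σ ∈ commutator (Equiv.Perm (Fin t))) :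
    ∃ T', Has M (σ i) T' ∧ ∀ p, p ∈ T' ↔ p ∘ σ ∈ T := by
  classical
  obtain ⟨sT, hT⟩ := hT
  obtain ⟨T', hT'⟩ : ∃ T', T' = Finset.univ.filter fun p : Fin t → Fin k => p ∘ σ ∈ T := ⟨_, rfl⟩
  have hmem : ∀ p, p ∈ T' ↔ p ∘ σ ∈ T := fun p => by simp [hT']
  have hupd : ∀ (p : Fin t → Fin k) a, Function.update p (σ i) a ∘ σ = Function.update (p ∘ σ) i a := fun p a => by
    funext j
    rcases eq_or_ne j i with rfl | hj
    · simp
    · simp [hj, σ.injective.ne hj]
  have sT' : Sat (σ i) T' := fun p a => by rw [hmem, hmem, hupd, sT]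
  refine ⟨T', ⟨sT', fun x hx => ?_⟩, hmem⟩
  obtain ⟨P, hP⟩ : ∃ P, P = permW (tw t (dW k δ)) (slotPerm σ) := ⟨_, rfl⟩
  have e : P * lineQ i (setI sT x) = lineQ (σ i) (setI sT' x) * P := quadIsoms_ext _ fun y => funext fun p => by
    show P.1 ((lineQ i (setI sT x)).1 y) p = (lineQ (σ i) (setI sT' x)).1 (P.1 y) p
    rw [hP, permW_slotPerm_apply, lineQ_apply, lineQ_apply, setI_apply, setI_apply]
    simp only [permW_slotPerm_apply, hupd, hmem, Function.comp_apply]
  have hPM : P ∈ M := hP ▸ C.perm σ hσ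
  rw [← mul_inv_eq_of_eq_mul e]
  exact mul_mem (mul_mem hPM (hT x hx)) (inv_mem hPM)

/-- the lines through one point in one direction -/
def LineHas (M : Subgroup (BigW t (dW k δ))) (i : Fin t) (c : Fin t → Fin k) : Prop :=
  ∀ x ∈ commutator (SmlW (dW k δ)), lineQ i (oneI i c x) ∈ M

theorem lineHas_iff {i : Fin t} {c : Fin t → Fin k} {T : Finset (Fin t → Fin k)}
    (hT : ∀ p, p ∈ T ↔ ∀ j, j ≠ i → p j = c j) : Has M i T ↔ LineHas M i c := by
  classical
  have key : ∀ (hs : Sat i T) (x : SmlW (dW k δ)), setI hs x = oneI i c x := fun hs x =>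
    Subtype.ext (funext fun p => by rw [setI_apply, oneI_apply]; simp only [hT])
  refine ⟨fun ⟨hs, h⟩ x hx => key hs x ▸ h x hx, fun h => ?_⟩
  have hs : Sat i T := fun p a => by
    rw [hT, hT]
    exact forall_congr' fun j => imp_congr_right fun hj => by rw [Function.update_of_ne hj]
  exact ⟨hs, fun x hx => (key hs x).symm ▸ h x hx⟩

/-- a witness gives one line -/
theorem exists_line (C : Ctx t k δ M) {i : Fin t} {u : indep t (dW k δ) i} (hu : lineQ i u ∈ M)
    {a b : Fin t → Fin k} (ha : Sc (u.1 a)) (hb : ¬ Sc (u.1 b)) :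
    ∃ (i : Fin t) (c : Fin t → Fin k), (∀ j, j ≠ i → W1 (c j)) ∧ LineHas M i c := by
  classical
  have hk := C.ok
  suffices h : ∀ n, n + 1 ≤ t → ∃ (i : Fin t) (A : Finset (Fin t)) (c : Fin t → Fin k) (T : Finset (Fin t → Fin k)),
      A.card = n ∧ i ∉ A ∧ Has M i T ∧ T.Nonempty ∧ T ≠ Finset.univ ∧ ∀ j ∈ A, W1 (c j) ∧ ∀ p ∈ T, p j = c j by
    obtain ⟨i, A, c, T, hA, hiA, hT, ⟨p, hp⟩, -, hc⟩ := h (t - 1) (by have := C.two_le; omega)
    have hA' : A = Finset.univ.erase i := Finset.eq_of_subset_of_card_le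
      (fun j hj => Finset.mem_erase.2 ⟨fun e => hiA (e ▸ hj), Finset.mem_univ j⟩)
      (by rw [Finset.card_erase_of_mem (Finset.mem_univ i), Finset.card_univ, Fintype.card_fin, hA])
    have hmem : ∀ j, j ≠ i → j ∈ A := fun j hj => hA' ▸ Finset.mem_erase.2 ⟨hj, Finset.mem_univ j⟩
    refine ⟨i, c, fun j hj => (hc j (hmem j hj)).1, (lineHas_iff fun q => ⟨fun hq j hj => (hc j (hmem j hj)).2 q hq,
      fun hq => ?_⟩).1 hT⟩
    have e : q = Function.update p i (q i) := funext fun j => by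
      rcases eq_or_ne j i with rfl | hj
      · simp
      · rw [Function.update_of_ne hj, hq j hj, (hc j (hmem j hj)).2 p hp]
    rw [e, hT.1]
    exact hp
  intro n
  induction n with
  | zero =>
    intro _
    obtain ⟨T, hT, hbT, hTs⟩ := has_at C hu hb
    exact ⟨i, ∅, b, T, rfl, Finset.notMem_empty _, hT, ⟨b, hbT⟩,
      fun e => hTs a (e ▸ Finset.mem_univ a) ha, fun j hj => absurd hj (Finset.notMem_empty j)⟩
  | succ n ih =>
    intro hn
    obtain ⟨i, A, c, T, hA, hiA, hT, ⟨p₀, hp₀⟩, hTu, hc⟩ := ih (by omega)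
    obtain ⟨a', ha', -⟩ := hk.exists_w1 (dC hk.pos) (dC hk.pos)
    have hsat := hT.1
    by_cases hcase : ∃ m, m ≠ i ∧ m ∉ A ∧ ∃ p ∈ T, ∃ e, Function.update p m e ∉ T
    · obtain ⟨m, hmi, hmA, p, hp, e, he⟩ := hcase
      obtain ⟨p', hp'⟩ : ∃ p', p' = Function.update p i a' := ⟨_, rfl⟩
      have h1 : ∃ e, Function.update p' m e ∈ T := ⟨p m, by
        rw [hp', Function.update_comm hmi.symm, Function.update_eq_self, hsat]
        exact hp⟩
      have h0 : ∃ e, Function.update p' m e ∉ T := ⟨e, by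
        rw [hp', Function.update_comm hmi.symm, hsat]
        exact he⟩
      obtain ⟨T', hT', hpT', hq⟩ := convert_slot C hT hmi (p := p') (by rw [hp', Function.update_self]; exact ha') h1 h0
      refine ⟨m, insert i A, Function.update c i a', T', by rw [Finset.card_insert_of_notMem hiA, hA],
        by simp [hmi, hmA], hT', ⟨p', hpT'⟩, fun e' => ?_, fun j hj => ?_⟩
      · obtain ⟨b', -, hb', -⟩ := hk.exists_w1 a' a'
        have := (hq (Function.update p' i b') (e' ▸ Finset.mem_univ _)).1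
        rw [Function.update_self, hp', Function.update_self] at this
        exact hb' this
      rcases Finset.mem_insert.1 hj with rfl | hj
      · rw [Function.update_self]
        exact ⟨ha', fun q hq' => by rw [(hq q hq').1, hp', Function.update_self]⟩
      · have hji : j ≠ i := fun e => hiA (e ▸ hj)
        rw [Function.update_of_ne hji]
        refine ⟨(hc j hj).1, fun q hq' => ?_⟩
        obtain ⟨e', he'⟩ := (hq q hq').2.1
        have := (hc j hj).2 _ he'
        rwa [Function.update_of_ne (show j ≠ m from fun e => hmA (e ▸ hj))] at this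
    -- a cylinder
    have hfull : ∀ p ∈ T, ∀ m, m ∉ A → ∀ e, Function.update p m e ∈ T := by
      intro p hp m hmA e
      rcases eq_or_ne m i with rfl | hmi
      · exact (hsat p e).2 hp
      · by_contra h
        exact hcase ⟨m, hmi, hmA, p, hp, e, h⟩
    have hcyl : ∀ q : Fin t → Fin k, (∀ j ∈ A, q j = c j) → q ∈ T := by
      intro q hq
      suffices ∀ J : Finset (Fin t), Disjoint J A → J.piecewise q p₀ ∈ T by
        convert this Aᶜ disjoint_compl_left using 1
        funext j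
        by_cases hj : j ∈ A
        · rw [Finset.piecewise_eq_of_notMem _ _ _ (by simp [hj]), hq j hj, (hc j hj).2 p₀ hp₀]
        · rw [Finset.piecewise_eq_of_mem _ _ _ (by simp [hj])]
      intro J
      induction J using Finset.induction_on with
      | empty => intro _; simpa using hp₀
      | insert j J hjJ ihJ =>
        intro hd
        rw [Finset.disjoint_insert_left] at hd
        rw [Finset.piecewise_insert]
        exact hfull _ (ihJ hd.2) j hd.1 _
    obtain ⟨j, hj⟩ : A.Nonempty := by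
      by_contra h
      rw [Finset.not_nonempty_iff_eq_empty] at h
      exact hTu (Finset.eq_univ_iff_forall.2 fun q => hcyl q (by simp [h]))
    obtain ⟨m, hm⟩ : ∃ m, m ∈ (insert i A)ᶜ := Finset.card_pos.1 (by
      rw [Finset.card_compl, Finset.card_insert_of_notMem hiA, hA, Fintype.card_fin]; omega)
    simp only [Finset.mem_compl, Finset.mem_insert, not_or] at hm
    obtain ⟨hmi, hmA⟩ := hm
    have hji : j ≠ i := fun e => hiA (e ▸ hj)
    have hjm : j ≠ m := fun e => hmA (e ▸ hj)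
    obtain ⟨p, hpd⟩ : ∃ p, p = Function.update (Function.update c i a') m (c j) := ⟨_, rfl⟩
    have hpA : ∀ l ∈ A, p l = c l := fun l hl => by
      rw [hpd, Function.update_of_ne (show l ≠ m from fun e => hmA (e ▸ hl)),
        Function.update_of_ne (show l ≠ i from fun e => hiA (e ▸ hl))]
    have hpi : p i = a' := by rw [hpd, Function.update_of_ne (Ne.symm hmi), Function.update_self]
    obtain ⟨b', -, hb', -⟩ := hk.exists_w1 (c j) (c j)
    obtain ⟨T', hT', hpT', hq⟩ := convert_slot C hT hji (p := p) (by rw [hpi]; exact ha')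
      ⟨p j, by rw [Function.update_eq_self]; exact hcyl p hpA⟩
      ⟨b', fun h => hb' (by
        have := (hc j hj).2 _ h
        rwa [Function.update_self] at this)⟩
    obtain ⟨σ, hσd⟩ : ∃ σ : Equiv.Perm (Fin t), σ = ⁅Equiv.swap j m, Equiv.swap m i⁆ := ⟨_, rfl⟩
    have hσm : σ ∈ commutator (Equiv.Perm (Fin t)) := by
      rw [hσd, commutator_def]
      exact Subgroup.commutator_mem_commutator (Subgroup.mem_top _) (Subgroup.mem_top _)
    have hσe : σ = Equiv.swap j m * Equiv.swap m i * Equiv.swap j m * Equiv.swap m i := by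
      rw [hσd, commutatorElement_def, Equiv.swap_inv, Equiv.swap_inv]
    have hσj : σ j = i := by
      rw [hσe]; simp only [Equiv.Perm.mul_apply]
      rw [Equiv.swap_apply_of_ne_of_ne hjm hji, Equiv.swap_apply_left, Equiv.swap_apply_left,
        Equiv.swap_apply_of_ne_of_ne hji.symm (Ne.symm hmi)]
    have hσi : σ i = m := by
      rw [hσe]; simp only [Equiv.Perm.mul_apply]
      rw [Equiv.swap_apply_right, Equiv.swap_apply_right, Equiv.swap_apply_of_ne_of_ne hjm hji,
        Equiv.swap_apply_left]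
    have hσm' : σ m = j := by
      rw [hσe]; simp only [Equiv.Perm.mul_apply]
      rw [Equiv.swap_apply_left, Equiv.swap_apply_of_ne_of_ne hji.symm (Ne.symm hmi), Equiv.swap_apply_right,
        Equiv.swap_apply_right]
    have hσl : ∀ l, l ≠ i → l ≠ j → l ≠ m → σ l = l := fun l h1 h2 h3 => by
      rw [hσe]; simp only [Equiv.Perm.mul_apply]
      simp [Equiv.swap_apply_of_ne_of_ne h2 h3, Equiv.swap_apply_of_ne_of_ne h3 h1]
    obtain ⟨T'', hT'', hmem⟩ := hT'.perm C hσm
    rw [hσj] at hT''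
    refine ⟨i, insert m A, Function.update c m a', T'' ∩ T, by rw [Finset.card_insert_of_notMem hmA, hA],
      by simp [Ne.symm hmi, hiA], hT''.inter C hT, ⟨p ∘ σ.symm, Finset.mem_inter.2 ⟨(hmem _).2 ?_, ?_⟩⟩,
      fun e => ?_, fun l hl => ?_⟩
    · rw [Function.comp_assoc, Equiv.symm_comp_self, Function.comp_id]; exact hpT'
    · refine hcyl _ fun l hl => ?_
      have hli : l ≠ i := fun e => hiA (e ▸ hl)
      have hlm : l ≠ m := fun e => hmA (e ▸ hl)
      rcases eq_or_ne l j with rfl | hlj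
      · rw [Function.comp_apply, show σ.symm l = m by rw [Equiv.symm_apply_eq, hσm'], hpd, Function.update_self]
      · rw [Function.comp_apply, show σ.symm l = l by rw [Equiv.symm_apply_eq, hσl l hli hlj hlm]]
        exact hpA l hl
    · refine hTu (Finset.eq_univ_iff_forall.2 fun q => ?_)
      have := Finset.eq_univ_iff_forall.1 e q
      exact (Finset.mem_inter.1 this).2
    rcases Finset.mem_insert.1 hl with rfl | hl
    · rw [Function.update_self]
      refine ⟨ha', fun q hq' => ?_⟩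
      have h := (hq _ ((hmem q).1 (Finset.mem_inter.1 hq').1)).1
      rwa [Function.comp_apply, hσi, hpi] at h
    · rw [Function.update_of_ne (show l ≠ m from fun e => hmA (e ▸ hl))]
      exact ⟨(hc l hl).1, fun q hq' => (hc l hl).2 q (Finset.mem_inter.1 hq').2⟩

/-- from one line to a crossing line -/
theorem line_move (C : Ctx t k δ M) {i : Fin t} {c : Fin t → Fin k} (h : LineHas M i c) {m : Fin t} (hm : m ≠ i)
    {a : Fin k} (ha : W1 a) : LineHas M m (Function.update c i a) := by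
  classical
  obtain ⟨T, hTd⟩ : ∃ T, T = Finset.univ.filter fun p : Fin t → Fin k => ∀ j, j ≠ i → p j = c j := ⟨_, rfl⟩
  have hmem : ∀ p, p ∈ T ↔ ∀ j, j ≠ i → p j = c j := fun p => by simp [hTd]
  obtain ⟨b, -, hb, -⟩ := C.ok.exists_w1 (c m) (c m)
  obtain ⟨p, hp⟩ : ∃ p, p = Function.update c i a := ⟨_, rfl⟩
  obtain ⟨T', hT', hpT', hq⟩ := convert_slot C ((lineHas_iff hmem).2 h) hm (p := p)
    (by rw [hp, Function.update_self]; exact ha)
    ⟨c m, (hmem _).2 fun j hj => by
      rcases eq_or_ne j m with rfl | hjm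
      · simp
      · simp [hp, hj, hjm]⟩
    ⟨b, fun h' => hb (by
      have := (hmem _).1 h' m hm
      rwa [Function.update_self] at this)⟩
  rw [← hp]
  refine (lineHas_iff fun q => ⟨fun hq' j hj => ?_, fun hq' => ?_⟩).1 hT'
  · rcases eq_or_ne j i with rfl | hji
    · exact (hq q hq').1
    · obtain ⟨e, he⟩ := (hq q hq').2.1
      have := (hmem _).1 he j hji
      rw [Function.update_of_ne hj] at this
      rw [this, hp, Function.update_of_ne hji]
  · have e : q = Function.update p m (q m) := funext fun j => by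
      rcases eq_or_ne j m with rfl | hj
      · simp
      · rw [Function.update_of_ne hj, hq' j hj]
    rw [e, hT'.1]
    exact hpT'

theorem lineHas_congr {i : Fin t} {c c' : Fin t → Fin k} (h : ∀ j, j ≠ i → c j = c' j) (hc : LineHas M i c) :
    LineHas M i c' := fun x hx => by
  have e : oneI i c' x = oneI i c x := Subtype.ext (funext fun p => by
    rw [oneI_apply, oneI_apply]
    exact if_congr (forall_congr' fun j => imp_congr_right fun hj => by rw [h j hj]) rfl rfl)
  rw [e]; exact hc x hx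

/-- the commutator subgroup of every line with fixed coordinates of weight one -/
theorem lines (C : Ctx t k δ M) {i : Fin t} {u : indep t (dW k δ) i} (hu : lineQ i u ∈ M)
    {a b : Fin t → Fin k} (ha : Sc (u.1 a)) (hb : ¬ Sc (u.1 b)) (i : Fin t) (c : Fin t → Fin k)
    (hc : ∀ j, j ≠ i → W1 (c j)) : LineHas M i c := by
  classical
  obtain ⟨i₀, c₀, hc₀, h₀⟩ := exists_line C hu ha hb
  obtain ⟨w, hw, -⟩ := C.ok.exists_w1 (dC C.ok.pos) (dC C.ok.pos)
  have hall : ∀ (J : Finset (Fin t)) (d : Fin t → Fin k), (∀ j, j ≠ i₀ → W1 (d j)) →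
      (∀ j, j ∉ J → j ≠ i₀ → d j = c₀ j) → LineHas M i₀ d := by
    intro J
    induction J using Finset.induction_on with
    | empty => intro d _ hd; exact lineHas_congr (fun j hj => (hd j (Finset.notMem_empty j) hj).symm) h₀
    | insert m J hmJ ih =>
      intro d hd1 hd
      rcases eq_or_ne m i₀ with rfl | hm
      · exact ih d hd1 fun j hj hji => hd j (by simp [hj, hji]) hji
      obtain ⟨d', hd'⟩ : ∃ d', d' = Function.update d m (c₀ m) := ⟨_, rfl⟩
      have h' : LineHas M i₀ d' := ih d'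
        (fun j hj => by
          rcases eq_or_ne j m with rfl | hjm
          · rw [hd', Function.update_self]; exact hc₀ j hj
          · rw [hd', Function.update_of_ne hjm]; exact hd1 j hj)
        (fun j hj hji => by
          rcases eq_or_ne j m with rfl | hjm
          · rw [hd', Function.update_self]
          · rw [hd', Function.update_of_ne hjm]; exact hd j (by simp [hj, hjm]) hji)
      have h2 := line_move C (line_move C h' hm hw) hm.symm (hd1 m hm)
      refine lineHas_congr (fun j hj => ?_) h2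
      rcases eq_or_ne j m with rfl | hjm
      · simp
      · simp [hd', hj, hjm]
  have key : ∀ d : Fin t → Fin k, (∀ j, j ≠ i₀ → W1 (d j)) → LineHas M i₀ d := fun d hd =>
    hall Finset.univ d hd fun j hj => absurd (Finset.mem_univ j) hj
  rcases eq_or_ne i i₀ with rfl | hi
  · exact key c hc
  have h1 := key (Function.update c i w) (fun j hj => by
    rcases eq_or_ne j i with rfl | hji
    · simpa using hw
    · rw [Function.update_of_ne hji]; exact hc j hji)
  refine lineHas_congr (fun j hj => ?_) (line_move C h1 hi (hc i₀ hi.symm))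
  rcases eq_or_ne j i₀ with rfl | hj0
  · simp
  · simp [hj, hj0]

end CfsgLib.MaxSub.TPowE
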