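import Cfsg.Agent.Lib.MaxSub.TPowE.Transport
import Cfsg.Agent.Lib.MaxSub.OFrame
import Cfsg.Agent.Lib.Classical.ExcIsoMinusFour
import Cfsg.Agent.Lib.Classical.OrthOmega
import Cfsg.Agent.Lib.ClassK.SmallSimple

/-!
The commutator subgroup of the isometry group of one slot (weights `1, …, 1, δ`, even dimension at least six, or
four with `δ` not a square): it is perfect, its proper normal subgroups are scalar, only scalars centralise it.
-/

set_option autoImplicit false
set_option linter.unusedSectionVars false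

namespace CfsgLib.MaxSub.TPowE

open Matrix CfsgLib.Classical CfsgLib.Geom CfsgLib.MaxSub
open QuadraticMap (polar)
open scoped Matrix MatrixGroups commutatorElement

variable {k : ℕ} {F : Type*} [Field F]

/-- the sizes allowed -/
structure SlotOk (k : ℕ) (δ : F) : Prop where
  even : Even k
  two : (2 : F) ≠ 0
  ne : δ ≠ 0
  size : 6 ≤ k ∨ (k = 4 ∧ ¬ IsSquare δ)

/-- a coordinate of weight one -/
def W1 (a : Fin k) : Prop := (a : ℕ) + 1 < k

/-- the last coordinate -/
def dC (hk : 0 < k) : Fin k := ⟨k - 1, by omega⟩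

theorem not_w1_iff (hk : 0 < k) {a : Fin k} : ¬ W1 a ↔ a = dC hk := by
  unfold W1 dC
  rw [Fin.ext_iff]
  have := a.2
  constructor
  · intro h; show (a : ℕ) = k - 1; omega
  · intro h; have h' : (a : ℕ) = k - 1 := h; omega

namespace SlotOk

variable {δ : F}

theorem four_le (h : SlotOk k δ) : 4 ≤ k := by rcases h.size with h | ⟨h, -⟩ <;> omega

theorem pos (h : SlotOk k δ) : 0 < k := by have := h.four_le; omega

theorem wne (h : SlotOk k δ) : ∀ a, dW k δ a ≠ 0 := dW_ne_zero h.ne

theorem exists_w1 (h : SlotOk k δ) (a b : Fin k) : ∃ c, W1 c ∧ c ≠ a ∧ c ≠ b := by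
  have := h.four_le
  obtain ⟨c, hc, hc'⟩ := Finset.exists_mem_notMem_of_card_lt_card (s := ({a, b} : Finset (Fin k)))
    (t := ({⟨0, by omega⟩, ⟨1, by omega⟩, ⟨2, by omega⟩} : Finset (Fin k))) (lt_of_le_of_lt Finset.card_le_two (by
      rw [Finset.card_eq_three.2 ⟨_, _, _, ?_, ?_, ?_, rfl⟩]
      · omega
      all_goals simp [Fin.ext_iff]))
  simp only [Finset.mem_insert, Finset.mem_singleton, not_or] at hc hc'
  refine ⟨c, ?_, hc'⟩
  unfold W1
  rcases hc with rfl | rfl | rfl <;> simp <;> omega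

end SlotOk

theorem dW_w1 (δ : F) {a : Fin k} (ha : W1 a) : dW k δ a = 1 := dW_of_lt δ ha

theorem dW_dC (δ : F) (hk : 0 < k) : dW k δ (dC hk) = δ := if_pos (by simp only [dC]; omega)

section Single

variable {w : Fin k → F}

theorem wq_single (w : Fin k → F) (a : Fin k) (c : F) : wq w (Pi.single a c) = w a * (c * c) := by
  rw [wq_apply, Finset.sum_eq_single a (fun b _ hb => by simp [hb]) (by simp), Pi.single_eq_same]

/-- the reflection at one coordinate vector -/
noncomputable def rC (hw : ∀ a, w a ≠ 0) (a : Fin k) : SmlW w :=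
  ⟨reflEquiv (wq w) (Pi.single a 1) (by rw [wq_single]; simpa using hw a), reflEquiv_mem _ _ _⟩

theorem rC_apply (hw : ∀ a, w a ≠ 0) (a : Fin k) (z : Fin k → F) (l : Fin k) :
    (rC hw a).1 z l = if l = a then -z l else z l := by
  simp only [rC]
  rw [reflEquiv_apply, polar_wq, wq_single, Finset.sum_eq_single a (fun b _ hb => by simp [hb]) (by simp),
    Pi.sub_apply, Pi.smul_apply, Pi.single_eq_same, smul_eq_mul]
  rcases eq_or_ne l a with rfl | hl
  · rw [if_pos rfl, Pi.single_eq_same]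
    have := hw l
    field_simp
    ring
  · rw [if_neg hl, Pi.single_eq_of_ne hl, mul_zero, sub_zero]

/-- two coordinates of equal weight: the pair of reflections is a commutator -/
theorem flip_mem_commutator (hw : ∀ a, w a ≠ 0) {a b : Fin k} (hab : a ≠ b) (hwab : w a = w b) :
    rC hw a * rC hw b ∈ commutator (SmlW w) := by
  obtain ⟨π, hπ⟩ : ∃ π : SmlW w, π = permW w ⟨Equiv.swap a b, swap_mem_wperm w hwab⟩ := ⟨_, rfl⟩
  have hπi : π⁻¹ = π := by
    rw [hπ, ← map_inv]
    exact congrArg _ (Subtype.ext (Equiv.swap_inv a b))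
  have hri : (rC hw a)⁻¹ = rC hw a := inv_eq_of_mul_eq_one_right (quadIsoms_ext _ fun z => funext fun l => by
    show (rC hw a).1 ((rC hw a).1 z) l = z l
    rw [rC_apply, rC_apply]
    split_ifs <;> simp)
  have e : rC hw a * rC hw b = ⁅rC hw a, π⁆ := by
    rw [commutatorElement_def, hπi, hri, hπ]
    refine quadIsoms_ext _ fun z => funext fun l => ?_
    show (rC hw a).1 ((rC hw b).1 z) l =
      (rC hw a).1 ((permW w _).1 ((rC hw a).1 ((permW w _).1 z))) l
    simp only [rC_apply, permW_apply, Equiv.symm_swap, Equiv.swap_apply_self]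
    by_cases h1 : l = a <;> by_cases h2 : l = b <;>
      first | exact absurd (h1.symm.trans h2) hab | simp [Equiv.swap_apply_def, h1, h2, hab, Ne.symm hab]
  rw [e, commutator_def]
  exact Subgroup.commutator_mem_commutator (Subgroup.mem_top _) (Subgroup.mem_top _)

variable (h2 : (2 : F) ≠ 0) (hw : ∀ a, w a ≠ 0)

/-- Dickson invariant and spinor norm on one slot -/
noncomputable def spS : SmlW w →* Multiplicative (ZMod 2) × SqClass F :=
  (spinorHom (wq w) (wq_sep hw h2) (exGen_of_odd h2)).comp (orEquiv (wq w)).toMonoidHom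

theorem spS_refl {v : Fin k → F} (hv : wq w v ≠ 0) :
    spS h2 hw ⟨reflEquiv (wq w) v hv, reflEquiv_mem _ v hv⟩ = (Multiplicative.ofAdd 1, sqClass hv) :=
  spinorHom_refl _ _ _ _ hv (glOfEquiv_reflEquiv _ v hv)

include h2 hw

variable [Fintype F]

theorem spS_ker (g : SmlW w) : spS h2 hw g = 1 ↔ g ∈ commutator (SmlW w) := by
  have h : Cfsg.Omega F (⇑(wq w)) = (commutator (SmlW w)).map (orEquiv (wq w)).toMonoidHom := by
    rw [commutator_def, Subgroup.map_commutator,
      Subgroup.map_top_of_surjective (orEquiv (wq w)).toMonoidHom (orEquiv (wq w)).surjective, ← commutator_def]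
  constructor
  · intro hg
    have hg' : orEquiv (wq w) g ∈ Cfsg.Omega F (⇑(wq w)) := by
      rw [omega_eq_ker_spinorHom _ (wq_sep hw h2) (exGen_of_odd h2)]
      exact hg
    rw [h] at hg'
    exact (Subgroup.mem_map_iff_mem (orEquiv (wq w)).injective).1 hg'
  · intro hg
    exact MonoidHom.mem_ker.1 (Abelianization.commutator_subset_ker (spS h2 hw) hg)

theorem sq_mem_commutator (g : SmlW w) : g * g ∈ commutator (SmlW w) := by
  rw [← spS_ker h2 hw, map_mul]
  exact TPow.exp_two _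

/-- Siegel transformations lie in the commutator subgroup -/
theorem siegel_mem_commW (u z : Fin k → F) : siegel (wq w) u z ∈ commutator (SmlW w) := by
  by_cases h : wq w u = 0 ∧ polar (wq w) u z = 0
  swap
  · rw [siegel_of_not _ h]; exact one_mem _
  have hh : polar (wq w) u ((2 : F)⁻¹ • z) = 0 := by
    rw [QuadraticMap.polar_smul_right, h.2, smul_zero]
  have e : siegel (wq w) u z =
      siegel (wq w) u ((2 : F)⁻¹ • z) * siegel (wq w) u ((2 : F)⁻¹ • z) := by
    rw [← siegel_add _ h.1 hh hh, ← add_smul]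
    congr 1
    rw [← two_mul, mul_inv_cancel₀ h2, one_smul]
  rw [e]; exact sq_mem_commutator h2 hw _

end Single

variable [Fintype F] {δ : F}

/-- only scalars commute with the commutator subgroup -/
theorem scalar_of_commute (hk : SlotOk k δ) {x : SmlW (dW k δ)}
    (hx : ∀ y ∈ commutator (SmlW (dW k δ)), y * x = x * y) : ∃ c : F, ∀ v, x.1 v = c • v := by
  classical
  have h4 := hk.four_le
  have hap : ∀ y ∈ commutator (SmlW (dW k δ)), ∀ v, y.1 (x.1 v) = x.1 (y.1 v) := fun y hy v =>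
    congrArg (fun g : SmlW (dW k δ) => g.1 v) (hx y hy)
  have hflip : ∀ a b : Fin k, W1 a → W1 b → a ≠ b → ∀ v l,
      (rC hk.wne a * rC hk.wne b).1 v l = if l = a ∨ l = b then -v l else v l := fun a b _ _ hab v l => by
    show (rC hk.wne a).1 ((rC hk.wne b).1 v) l = _
    rw [rC_apply, rC_apply]
    by_cases h1 : l = a <;> by_cases h2 : l = b <;> simp_all
  have hdiag : ∀ a l, l ≠ a → x.1 (Pi.single a 1) l = 0 := by
    intro a l hla
    -- a pair containing exactly one of the two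
    have key : ∀ b c : Fin k, W1 b → W1 c → b ≠ c → ((a = b ∨ a = c) ↔ ¬ (l = b ∨ l = c)) →
        x.1 (Pi.single a 1) l = 0 := by
      intro b c hb hc hbc hiff
      have h := congrFun (hap _ (flip_mem_commutator hk.wne hbc (by rw [dW_w1 δ hb, dW_w1 δ hc]))
        (Pi.single a 1)) l
      have e : (rC hk.wne b * rC hk.wne c).1 (Pi.single a 1) =
          (if a = b ∨ a = c then (-1 : F) else 1) • (Pi.single a 1 : Fin k → F) := funext fun m => by
        rw [hflip b c hb hc hbc]
        rcases eq_or_ne m a with rfl | hm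
        · split_ifs <;> simp
        · simp [hm]
      rw [hflip b c hb hc hbc, e, map_smul, Pi.smul_apply, smul_eq_mul] at h
      by_cases hl : l = b ∨ l = c
      · rw [if_pos hl, if_neg (fun ha => (hiff.1 ha) hl), one_mul] at h
        exact (mul_eq_zero.1 (show (2 : F) * x.1 (Pi.single a 1) l = 0 by linear_combination -h)).resolve_left
          hk.two
      · rw [if_neg hl, if_pos (hiff.2 hl)] at h
        exact (mul_eq_zero.1 (show (2 : F) * x.1 (Pi.single a 1) l = 0 by linear_combination h)).resolve_left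
          hk.two
    by_cases ha : W1 a
    · obtain ⟨b, hb, hba, hbl⟩ := hk.exists_w1 a l
      exact key a b ha hb (Ne.symm hba) ⟨fun _ h => h.elim hla (fun e => hbl e.symm), fun _ => Or.inl rfl⟩
    · have hl : W1 l := by
        by_contra hl
        exact hla (((not_w1_iff hk.pos).1 hl).trans ((not_w1_iff hk.pos).1 ha).symm)
      obtain ⟨b, hb, hba, hbl⟩ := hk.exists_w1 a l
      exact key l b hl hb (Ne.symm hbl)
        ⟨fun h => absurd h (fun h => h.elim (Ne.symm hla) (Ne.symm hba)), fun h => absurd (Or.inl rfl) h⟩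
  -- a Siegel transformation joins the coordinates
  obtain ⟨s, r, hsr⟩ := exists_binary_eq hk.two (one_ne_zero (α := F)) one_ne_zero (-δ)
  simp only [one_mul] at hsr
  obtain ⟨X, hX⟩ : ∃ X : Fin k → F, X = fun a => x.1 (Pi.single a 1) a := ⟨_, rfl⟩
  have hxv : ∀ v l, x.1 v l = X l * v l := by
    intro v l
    have e : v = ∑ a, v a • (Pi.single a 1 : Fin k → F) := by
      funext m; simp [Finset.sum_apply, Pi.single_apply]
    conv_lhs => rw [e]
    rw [map_sum, Finset.sum_apply, Finset.sum_eq_single l (fun a _ ha => by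
      rw [map_smul, Pi.smul_apply, hdiag a l (Ne.symm ha), smul_zero]) (by simp), map_smul, Pi.smul_apply, hX]
    exact mul_comm _ _
  have hswap : ∀ a b, W1 a → W1 b → X a = X b := by
    intro a b ha hb
    rcases eq_or_ne a b with rfl | hab
    · rfl
    obtain ⟨c, hc, hca, hcb⟩ := hk.exists_w1 a b
    obtain ⟨σ, hσ⟩ : ∃ σ : wperm (dW k δ), σ = ⁅(⟨Equiv.swap a b, swap_mem_wperm _ (by rw [dW_w1 δ ha, dW_w1 δ hb])⟩ :
        wperm (dW k δ)), ⟨Equiv.swap b c, swap_mem_wperm _ (by rw [dW_w1 δ hb, dW_w1 δ hc])⟩⁆ := ⟨_, rfl⟩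
    have hσ1 : σ.1 a = c := by
      rw [hσ, commutatorElement_def]
      show (Equiv.swap a b * Equiv.swap b c * (Equiv.swap a b)⁻¹ * (Equiv.swap b c)⁻¹ : Equiv.Perm (Fin k)) a = c
      rw [Equiv.swap_inv, Equiv.swap_inv]
      simp only [Equiv.Perm.mul_apply]
      rw [Equiv.swap_apply_of_ne_of_ne hab (Ne.symm hca), Equiv.swap_apply_left, Equiv.swap_apply_left,
        Equiv.swap_apply_of_ne_of_ne hca hcb]
    have hσ2 : σ.1 c = b := by
      rw [hσ, commutatorElement_def]
      show (Equiv.swap a b * Equiv.swap b c * (Equiv.swap a b)⁻¹ * (Equiv.swap b c)⁻¹ : Equiv.Perm (Fin k)) c = b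
      rw [Equiv.swap_inv, Equiv.swap_inv]
      simp only [Equiv.Perm.mul_apply]
      rw [Equiv.swap_apply_right, Equiv.swap_apply_right, Equiv.swap_apply_of_ne_of_ne hab (Ne.symm hca),
        Equiv.swap_apply_left]
    have hmem : permW (dW k δ) σ ∈ commutator (SmlW (dW k δ)) := by
      rw [hσ, map_commutatorElement, commutator_def]
      exact Subgroup.commutator_mem_commutator (Subgroup.mem_top _) (Subgroup.mem_top _)
    have h1 := congrFun (hap _ hmem (Pi.single a 1)) c
    rw [permW_single, hσ1, permW_apply, show σ.1.symm c = a by rw [Equiv.symm_apply_eq, hσ1], hxv, hxv] at h1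
    have h3 := congrFun (hap _ hmem (Pi.single c 1)) b
    rw [permW_single, hσ2, permW_apply, show σ.1.symm b = c by rw [Equiv.symm_apply_eq, hσ2], hxv, hxv] at h3
    simp only [Pi.single_eq_same, mul_one] at h1 h3
    rw [h1, h3]
  obtain ⟨a, ha⟩ : ∃ a : Fin k, a = ⟨0, by omega⟩ := ⟨_, rfl⟩
  obtain ⟨b, hb⟩ : ∃ b : Fin k, b = ⟨1, by omega⟩ := ⟨_, rfl⟩
  obtain ⟨f, hf⟩ : ∃ f : Fin k, f = ⟨2, by omega⟩ := ⟨_, rfl⟩
  obtain ⟨d, hd⟩ : ∃ d : Fin k, d = dC hk.pos := ⟨_, rfl⟩
  have hwa : W1 a := by unfold W1; rw [ha]; simp only; omega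
  have hwb : W1 b := by unfold W1; rw [hb]; simp only; omega
  have hwf : W1 f := by unfold W1; rw [hf]; simp only; omega
  have hab : a ≠ b := by rw [ha, hb]; simp [Fin.ext_iff]
  have haf : a ≠ f := by rw [ha, hf]; simp [Fin.ext_iff]
  have hbf : b ≠ f := by rw [hb, hf]; simp [Fin.ext_iff]
  have had : a ≠ d := by rw [ha, hd]; simp [dC, Fin.ext_iff]; omega
  have hbd : b ≠ d := by rw [hb, hd]; simp [dC, Fin.ext_iff]; omega
  have hfd : f ≠ d := by rw [hf, hd]; simp [dC, Fin.ext_iff]; omega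
  obtain ⟨u, hu⟩ : ∃ u : Fin k → F, u = Pi.single a s + Pi.single b r + Pi.single d 1 := ⟨_, rfl⟩
  have hdot : ∀ z : Fin k → F, ∑ l, dW k δ l * (u l * z l) = s * z a + r * z b + δ * z d := fun z => by
    rw [hu]
    simp [Pi.single_apply, add_mul, mul_add, Finset.sum_add_distrib, dW_w1 δ hwa, dW_w1 δ hwb]
    rw [hd, dW_dC δ hk.pos]
    exact Or.inl rfl
  have huu : wq (dW k δ) u = 0 := by
    rw [wq_apply, hdot u, hu]
    simp [hab, hab.symm, had, had.symm, hbd, hbd.symm]
    linear_combination hsr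
  have huf : polar (wq (dW k δ)) u (Pi.single f 1) = 0 := by
    rw [polar_wq, hdot]
    simp [haf, hbf, hfd.symm]
  have hm := hap _ (siegel_mem_commW hk.two hk.wne u (Pi.single f 1)) (Pi.single f 1)
  have hm' := congrFun hm d
  rw [siegel_apply _ huu huf, hxv _ d, siegel_apply _ huu huf] at hm'
  have hxf : x.1 (Pi.single f 1) = X f • (Pi.single f 1 : Fin k → F) := funext fun l => by
    rw [hxv, Pi.smul_apply, smul_eq_mul]
    rcases eq_or_ne l f with rfl | hl
    · rfl
    · simp [hl]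
  rw [hxf, QuadraticMap.polar_smul_right, QuadraticMap.polar_smul_right, huf] at hm'
  have hp : polar (wq (dW k δ)) (Pi.single f 1) (Pi.single f 1) = 2 := by
    rw [polar_wq, Finset.sum_eq_single f (fun l _ hl => by simp [hl]) (by simp), dW_w1 δ hwf]
    simp
  have hud : u d = 1 := by rw [hu]; simp [had.symm, hbd.symm]
  simp [hp, hud, hfd.symm] at hm'
  have hXd : X d = X f := (hm'.resolve_right hk.two).symm
  refine ⟨X f, fun v => funext fun l => ?_⟩
  rw [hxv, Pi.smul_apply, smul_eq_mul]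
  congr 1
  by_cases hl : W1 l
  · exact hswap l f hl hwf
  · rw [(not_w1_iff hk.pos).1 hl, ← hd, hXd]

/-- the commutator subgroup is not scalar -/
theorem exists_nonscalar (hk : SlotOk k δ) :
    ∃ y ∈ commutator (SmlW (dW k δ)), ¬ ∃ c : F, ∀ v, y.1 v = c • v := by
  obtain ⟨a, ha, -⟩ := hk.exists_w1 (dC hk.pos) (dC hk.pos)
  obtain ⟨b, hb, hba, -⟩ := hk.exists_w1 a a
  obtain ⟨c, hc, hca, hcb⟩ := hk.exists_w1 a b
  refine ⟨_, flip_mem_commutator hk.wne (Ne.symm hba) (by rw [dW_w1 δ ha, dW_w1 δ hb]), fun ⟨l, hl⟩ => ?_⟩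
  have h1 := congrFun (hl (Pi.single a 1)) a
  have h3 := congrFun (hl (Pi.single c 1)) c
  have e : ∀ (v : Fin k → F) (m : Fin k), (rC hk.wne a * rC hk.wne b).1 v m =
      (rC hk.wne a).1 ((rC hk.wne b).1 v) m := fun v m => rfl
  rw [e, rC_apply, rC_apply] at h1 h3
  simp [Ne.symm hba, hca, hcb] at h1 h3
  exact hk.two (by linear_combination h3 - h1)

/-- four variables, non-square discriminant: the central quotient is simple -/
theorem simple_four (h : SlotOk 4 δ) (hns : ¬ IsSquare δ) :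
    IsSimpleGroup (↥(commutator (SmlW (dW 4 δ))) ⧸ Subgroup.center ↥(commutator (SmlW (dW 4 δ)))) := by
  classical
  have h2 := h.two
  obtain ⟨p, hp⟩ := CharP.exists F
  obtain ⟨n, hpp, hF⟩ := FiniteField.card F p
  haveI : Fact p.Prime := ⟨hpp⟩
  haveI : Fintype (GaloisField p (2 * (n : ℕ))) := Fintype.ofFinite _
  have hK : Fintype.card (GaloisField p (2 * (n : ℕ))) = Fintype.card F ^ 2 := by
    rw [← Nat.card_eq_fintype_card, GaloisField.card p _ (by have := n.pos; omega), hF, ← pow_mul, mul_comm 2]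
  have hab : ∀ z₁ z₂ : F, z₁ ^ 2 + 0 * z₁ * z₂ + -δ * z₂ ^ 2 = 0 → z₁ = 0 ∧ z₂ = 0 := fun z₁ z₂ e => by
    rcases eq_or_ne z₂ 0 with rfl | hz
    · exact ⟨pow_eq_zero_iff two_ne_zero |>.1 (by linear_combination e), rfl⟩
    · exact absurd ⟨z₁ / z₂, by field_simp; linear_combination -e⟩ hns
  have hq : 4 ≤ Fintype.card (GaloisField p (2 * (n : ℕ))) := by
    rw [hK]
    exact Nat.pow_le_pow_left (Fintype.one_lt_card (α := F)) 2
  obtain ⟨e₁⟩ := pOmega_minus_four (F := F) (K := GaloisField p (2 * (n : ℕ))) rfl hK 0 (-δ) hab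
  rw [← qfMinus_coe] at e₁
  haveI := CfsgLib.ClassK.isSimpleGroup_psl_two (F := GaloisField p (2 * (n : ℕ))) hq
  haveI : IsSimpleGroup (Cfsg.POmega F (⇑(qfMinus 1 F 0 (-δ)))) := e₁.isSimpleGroup
  obtain ⟨r, s, hrs⟩ := exists_binary_eq h2 (one_ne_zero (α := F)) one_ne_zero (-1 : F)
  simp only [one_mul] at hrs
  obtain ⟨L, hL⟩ : ∃ L : ((Fin 1 ⊕ Fin 1) ⊕ Fin 2 → F) →ₗ[F] (Fin 4 → F), ∀ v, L v =
      ![r * v (.inr 0) + s * ((v (.inl (.inl 0)) + v (.inl (.inr 0))) / 2),
        s * v (.inr 0) - r * ((v (.inl (.inl 0)) + v (.inl (.inr 0))) / 2),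
        (v (.inl (.inl 0)) - v (.inl (.inr 0))) / 2, v (.inr 1)] :=
    ⟨{ toFun := fun v => ![r * v (.inr 0) + s * ((v (.inl (.inl 0)) + v (.inl (.inr 0))) / 2),
        s * v (.inr 0) - r * ((v (.inl (.inl 0)) + v (.inl (.inr 0))) / 2),
        (v (.inl (.inl 0)) - v (.inl (.inr 0))) / 2, v (.inr 1)]
       map_add' := fun u v => by ext j; fin_cases j <;> simp <;> ring
       map_smul' := fun c v => by ext j; fin_cases j <;> simp <;> ring }, fun v => rfl⟩
  have hLq : ∀ v, qfMinus 1 F 0 (-δ) v = (-1 : F) * wq (dW 4 δ) (L v) := by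
    intro v
    rw [hL, wq_apply, qfMinus_apply]
    simp [Cfsg.quadFormMinus, Fin.sum_univ_four, dW]
    field_simp
    linear_combination (4 * (v (.inr 0)) ^ 2 + (v (.inl (.inl 0)) + v (.inl (.inr 0))) ^ 2) * hrs
  have hinj : Function.Injective L := by
    refine (injective_iff_map_eq_zero L).2 fun v hv => qfMinus_sep 1 hab v fun y => ?_
    simp only [QuadraticMap.polar, hLq, map_add, hv, zero_add, map_zero, mul_zero, sub_zero, sub_self]
  let ψ := LinearEquiv.ofInjectiveOfFinrankEq L hinj (by simp [Module.finrank_fintype_fun_eq_card])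
  have hψ : ∀ v, qfMinus 1 F 0 (-δ) v = (-1 : F) * wq (dW 4 δ) (ψ v) := hLq
  let Φ := conjW (qfMinus 1 F 0 (-δ)) (wq (dW 4 δ)) ψ (neg_ne_zero.2 one_ne_zero) hψ
  let ec : ↥(commutator (quadIsoms (qfMinus 1 F 0 (-δ)))) ≃* ↥(commutator (SmlW (dW 4 δ))) :=
    (Φ.subgroupMap (commutator (quadIsoms (qfMinus 1 F 0 (-δ))))).trans
      (MulEquiv.subgroupCongr (conjW_commutator (qfMinus 1 F 0 (-δ)) (wq (dW 4 δ)) ψ
        (neg_ne_zero.2 one_ne_zero) hψ))
  let e2 : (↥(commutator (SmlW (dW 4 δ))) ⧸ Subgroup.center ↥(commutator (SmlW (dW 4 δ)))) ≃*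
      Cfsg.POmega F (⇑(qfMinus 1 F 0 (-δ))) :=
    centerQuotCongr (ec.symm.trans (omegaEquiv (qfMinus 1 F 0 (-δ))))
  exact e2.isSimpleGroup

theorem scalar_sq {w : Fin k → F} (hw : ∀ a, w a ≠ 0) (hk : 0 < k) {x : SmlW w} {c : F}
    (hc : ∀ v, x.1 v = c • v) : c = 1 ∨ c = -1 := by
  have h := mem_quadIsoms.1 x.2 (Pi.single ⟨0, hk⟩ 1)
  rw [hc, QuadraticMap.map_smul, wq_single, smul_eq_mul] at h
  exact mul_self_eq_one_iff.1 (mul_right_cancel₀ (show w ⟨0, hk⟩ * (1 * 1) ≠ 0 by simpa using hw _)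
    (h.trans (one_mul _).symm))

/-- in four variables of non-square discriminant the commutator subgroup has trivial centre -/
theorem center_four (h : SlotOk 4 δ) (hns : ¬ IsSquare δ) :
    Subgroup.center ↥(commutator (SmlW (dW 4 δ))) = ⊥ := by
  rw [eq_bot_iff]
  intro z hz
  obtain ⟨c, hc⟩ := scalar_of_commute h fun y hy => congrArg Subtype.val (Subgroup.mem_center_iff.1 hz ⟨y, hy⟩)
  rcases scalar_sq h.wne h.pos hc with rfl | rfl
  · exact Subgroup.mem_bot.2 (Subtype.ext (quadIsoms_ext _ fun v => by rw [hc, one_smul]; rfl))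
  exfalso
  have e : (z : SmlW (dW 4 δ)) = rC h.wne 0 * rC h.wne 1 * rC h.wne 2 * rC h.wne 3 :=
    quadIsoms_ext _ fun v => funext fun l => by
      rw [hc]
      show ((-1 : F) • v) l = (rC h.wne 0).1 ((rC h.wne 1).1 ((rC h.wne 2).1 ((rC h.wne 3).1 v))) l
      simp only [rC_apply]
      fin_cases l <;> simp
  have h1 := (spS_ker h.two h.wne _).2 z.2
  rw [e, map_mul, map_mul, map_mul, rC, rC, rC, rC, spS_refl, spS_refl, spS_refl, spS_refl] at h1
  have h3 := congrArg Prod.snd h1
  simp only [Prod.snd_mul, Prod.snd_one, ← sqClass_mul] at h3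
  refine hns ?_
  have h5 := (sqClass_eq_one_iff _).1 h3
  simpa [wq_single, dW] using h5

/-- the commutator subgroup is perfect -/
theorem omega_perfect (hk : SlotOk k δ) : commutator ↥(commutator (SmlW (dW k δ))) = ⊤ := by
  rcases hk.size with h6 | ⟨rfl, hns⟩
  · exact commutator_commutator_quadIsoms (wq (dW k δ)) (wq_sep hk.wne hk.two)
      (by rw [Module.finrank_fintype_fun_eq_card, Fintype.card_fin]; omega)
  haveI : IsSimpleGroup ↥(commutator (SmlW (dW 4 δ))) := by
    haveI := simple_four hk hns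
    exact ((QuotientGroup.quotientBot (G := ↥(commutator (SmlW (dW 4 δ))))).symm.trans
      (QuotientGroup.quotientMulEquivOfEq (center_four hk hns).symm)).isSimpleGroup
  rcases Subgroup.Normal.eq_bot_or_eq_top (H := commutator ↥(commutator (SmlW (dW 4 δ)))) inferInstance with h | h
  · exfalso
    obtain ⟨y, hy, hns'⟩ := exists_nonscalar hk
    refine hns' (scalar_of_commute hk fun z hz => ?_)
    have hm : ⁅(⟨z, hz⟩ : ↥(commutator (SmlW (dW 4 δ)))), ⟨y, hy⟩⁆ ∈
        commutator ↥(commutator (SmlW (dW 4 δ))) := by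
      exact Subgroup.commutator_mem_commutator (Subgroup.mem_top _) (Subgroup.mem_top _)
    rw [h, Subgroup.mem_bot, commutatorElement_eq_one_iff_mul_comm] at hm
    exact congrArg Subtype.val hm
  · exact h

/-- a subgroup normalised by the commutator subgroup with a non-scalar element is all of it -/
theorem values_top (hk : SlotOk k δ) {N : Subgroup (SmlW (dW k δ))} (hle : N ≤ commutator (SmlW (dW k δ)))
    (hnorm : ∀ y ∈ commutator (SmlW (dW k δ)), ∀ x ∈ N, y * x * y⁻¹ ∈ N) {z : SmlW (dW k δ)} (hz : z ∈ N)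
    (hz1 : ¬ ∃ c : F, ∀ v, z.1 v = c • v) : N = commutator (SmlW (dW k δ)) := by
  haveI hn : (N.subgroupOf (commutator (SmlW (dW k δ)))).Normal := ⟨fun x hx y => hnorm y y.2 x hx⟩
  suffices N.subgroupOf (commutator (SmlW (dW k δ))) = ⊤ from le_antisymm hle (Subgroup.subgroupOf_eq_top.1 this)
  rcases hk.size with h6 | ⟨rfl, hns⟩
  · have h5 : 5 ≤ Module.finrank F (Fin k → F) := by rw [Module.finrank_fintype_fun_eq_card, Fintype.card_fin]; omega
    rcases normal_commutator_quadIsoms (wq (dW k δ)) (wq_sep hk.wne hk.two) h5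
      (N.subgroupOf (commutator (SmlW (dW k δ)))) with h | h
    · exact h
    · exact absurd (exists_scalar_of_fix_singular (wq (dW k δ)) (wq_sep hk.wne hk.two) h5 z
        (h ⟨z, hle hz⟩ hz)) hz1
  · haveI : IsSimpleGroup ↥(commutator (SmlW (dW 4 δ))) := by
      haveI := simple_four hk hns
      exact ((QuotientGroup.quotientBot (G := ↥(commutator (SmlW (dW 4 δ))))).symm.trans
        (QuotientGroup.quotientMulEquivOfEq (center_four hk hns).symm)).isSimpleGroup
    refine (hn.eq_bot_or_eq_top).resolve_left fun h => hz1 ⟨1, fun v => ?_⟩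
    have := congrArg Subtype.val ((Subgroup.eq_bot_iff_forall _).1 h ⟨z, hle hz⟩ hz)
    rw [show z = 1 from this, one_smul]
    rfl

end CfsgLib.MaxSub.TPowE
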