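import Cfsg.Agent.Lib.MaxSub.TPowE.Model

/-!
The spinor norm of slot elements of a tensor power of even dimensional factors.
-/

set_option autoImplicit false
set_option linter.unusedSectionVars false

namespace CfsgLib.MaxSub.TPowE

open Matrix CfsgLib.Classical CfsgLib.Geom CfsgLib.MaxSub
open QuadraticMap (polar)
open scoped Matrix MatrixGroups

variable {t k : ℕ} {F : Type*} [Field F] {w : Fin k → F}

/-- the element of one line -/
def oneI (i : Fin t) (c : Fin t → Fin k) : SmlW w →* indep t w i where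
  toFun h := ⟨fun p => if ∀ j, j ≠ i → p j = c j then h else 1, fun p a => by
    have e : (∀ j, j ≠ i → Function.update p i a j = c j) ↔ ∀ j, j ≠ i → p j = c j :=
      forall_congr' fun j => imp_congr_right fun hj => by rw [Function.update_of_ne hj]
    simp only [e]⟩
  map_one' := Subtype.ext (funext fun p => by simp)
  map_mul' g h := Subtype.ext (funext fun p => by
    show (if _ then g * h else 1) = (if _ then g else 1) * (if _ then h else 1)
    split_ifs <;> simp)

theorem oneI_apply (i : Fin t) (c : Fin t → Fin k) (h : SmlW w) (p : Fin t → Fin k) :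
    (oneI i c h).1 p = if ∀ j, j ≠ i → p j = c j then h else 1 := rfl

/-- the weight of a line -/
def lineWt (w : Fin k → F) (i : Fin t) (c : Fin t → Fin k) : F := ∏ j ∈ Finset.univ.erase i, w (c j)

theorem lineWt_ne_zero (hw : ∀ a, w a ≠ 0) (i : Fin t) (c : Fin t → Fin k) : lineWt w i c ≠ 0 :=
  Finset.prod_ne_zero_iff.2 fun _ _ => hw _

/-- a reflection of one line is a reflection -/
theorem lineQ_oneI_refl (hw : ∀ a, w a ≠ 0) (i : Fin t) (c : Fin t → Fin k) {u : Fin k → F}
    (hu : wq w u ≠ 0) :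
    ∃ v : (Fin t → Fin k) → F, ∃ hv : wq (tw t w) v ≠ 0, wq (tw t w) v = lineWt w i c * wq w u ∧
      lineQ i (oneI i c ⟨reflEquiv (wq w) u hu, reflEquiv_mem _ u hu⟩) =
        ⟨reflEquiv (wq (tw t w)) v hv, reflEquiv_mem _ v hv⟩ := by
  classical
  obtain ⟨v, hvdef⟩ : ∃ v : (Fin t → Fin k) → F, v = fun p => if ∀ j, j ≠ i → p j = c j then u (p i) else 0 :=
    ⟨_, rfl⟩
  have hupd : ∀ p, (∀ j, j ≠ i → p j = c j) → ∀ a, Function.update p i a = Function.update c i a := by
    intro p hp a
    funext j
    rcases eq_or_ne j i with rfl | hj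
    · simp
    · simp [hj, hp j hj]
  have hdot : ∀ x : (Fin t → Fin k) → F, ∑ p, tw t w p * (v p * x p) =
      lineWt w i c * ∑ a, w a * (u a * x (Function.update c i a)) := by
    intro x
    rw [← Finset.sum_filter_add_sum_filter_not Finset.univ (fun p => ∀ j, j ≠ i → p j = c j),
      Finset.sum_eq_zero (s := Finset.univ.filter fun p => ¬ _) fun p hp => by
        rw [hvdef]; simp only
        rw [if_neg (Finset.mem_filter.1 hp).2, zero_mul, mul_zero], add_zero, Finset.mul_sum]
    refine Finset.sum_bij' (fun p _ => p i) (fun a _ => Function.update c i a) (fun p _ => Finset.mem_univ _)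
      (fun a _ => Finset.mem_filter.2 ⟨Finset.mem_univ _, fun j hj => by rw [Function.update_of_ne hj]⟩)
      (fun p hp => by rw [← hupd p (Finset.mem_filter.1 hp).2, Function.update_eq_self])
      (fun a _ => by simp) fun p hp => ?_
    have hp' := (Finset.mem_filter.1 hp).2
    rw [hvdef, ← hupd p hp', Function.update_eq_self]
    simp only
    rw [if_pos hp', show tw t w p = w (p i) * lineWt w i c by
      rw [tw, ← Finset.mul_prod_erase _ _ (Finset.mem_univ i), lineWt]
      congr 1
      exact Finset.prod_congr rfl fun j hj => by rw [hp' j (Finset.ne_of_mem_erase hj)]]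
    ring
  have hvc : ∀ a, v (Function.update c i a) = u a := fun a => by
    rw [hvdef]; simp only [Function.update_self]
    rw [if_pos fun j hj => Function.update_of_ne hj _ _]
  have hvv : wq (tw t w) v = lineWt w i c * wq w u := by
    rw [wq_apply, hdot v, wq_apply]; simp only [hvc]
  have hv0 : wq (tw t w) v ≠ 0 := by rw [hvv]; exact mul_ne_zero (lineWt_ne_zero hw i c) hu
  refine ⟨v, hv0, hvv, quadIsoms_ext _ fun x => funext fun p => ?_⟩
  rw [lineQ_apply, oneI_apply]
  show _ = reflEquiv (wq (tw t w)) v hv0 x p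
  rw [reflEquiv_apply, hvv, polar_wq, hdot, Pi.sub_apply, Pi.smul_apply, smul_eq_mul]
  by_cases hp : ∀ j, j ≠ i → p j = c j
  · rw [if_pos hp]
    show reflEquiv (wq w) u hu (fun a => x (Function.update p i a)) (p i) = _
    rw [reflEquiv_apply, polar_wq, Pi.sub_apply, Pi.smul_apply, smul_eq_mul, Function.update_eq_self]
    simp only [hupd p hp]
    rw [hvdef]
    simp only [if_pos hp]
    have := lineWt_ne_zero hw i c
    field_simp
  · rw [if_neg hp]
    show (fun a => x (Function.update p i a)) (p i) = _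
    rw [hvdef]
    simp only [if_neg hp, mul_zero, sub_zero, Function.update_eq_self]

variable (h2 : (2 : F) ≠ 0) (hw : ∀ a, w a ≠ 0)

/-- the spinor norm with the Dickson invariant -/
noncomputable def spW : BigW t w →* Multiplicative (ZMod 2) × SqClass F :=
  (spinorHom (wq (tw t w)) (wq_sep (tw_ne_zero hw) h2) (exGen_of_odd h2)).comp
    (orEquiv (wq (tw t w))).toMonoidHom

theorem spW_refl {v : (Fin t → Fin k) → F} (hv : wq (tw t w) v ≠ 0) :
    spW h2 hw ⟨reflEquiv (wq (tw t w)) v hv, reflEquiv_mem _ v hv⟩ = (Multiplicative.ofAdd 1, sqClass hv) :=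
  spinorHom_refl _ _ _ _ hv (glOfEquiv_reflEquiv _ v hv)

theorem spW_ker [Finite F] (g : BigW t w) : spW h2 hw g = 1 ↔ g ∈ commutator (BigW t w) := by
  have h : Cfsg.Omega F (⇑(wq (tw t w))) =
      (commutator (BigW t w)).map (orEquiv (wq (tw t w))).toMonoidHom := by
    rw [commutator_def, Subgroup.map_commutator,
      Subgroup.map_top_of_surjective (orEquiv (wq (tw t w))).toMonoidHom
        (orEquiv (wq (tw t w))).surjective, ← commutator_def]
  constructor
  · intro hg
    have hg' : orEquiv (wq (tw t w)) g ∈ Cfsg.Omega F (⇑(wq (tw t w))) := by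
      rw [omega_eq_ker_spinorHom _ (wq_sep (tw_ne_zero hw) h2) (exGen_of_odd h2)]
      exact hg
    rw [h] at hg'
    exact (Subgroup.mem_map_iff_mem (orEquiv (wq (tw t w))).injective).1 hg'
  · intro hg
    exact MonoidHom.mem_ker.1 (Abelianization.commutator_subset_ker (spW h2 hw) hg)

/-- the class of the discriminant of the slot form -/
def discClass : SqClass F := sqClass (Finset.prod_ne_zero_iff.2 fun a (_ : a ∈ Finset.univ) => hw a)

theorem sqProj_prod {α : Type*} (S : Finset α) (f : α → F) (hf : ∀ a, f a ≠ 0) :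
    ∏ a ∈ S, sqClass (hf a) = sqClass (Finset.prod_ne_zero_iff.2 fun a (_ : a ∈ S) => hf a) := by
  rw [sqClass]
  simp only [sqClass, ← map_prod]
  exact congrArg _ (Units.ext (by simp))

/-- the product of all line weights -/
theorem prod_lineWt (ht : 2 ≤ t) (i : Fin t) :
    ∏ r : {j // j ≠ i} → Fin k, ∏ j : {j // j ≠ i}, w (r j) = (∏ a, w a) ^ ((t - 1) * k ^ (t - 2)) := by
  classical
  rw [Finset.prod_comm]
  have hcard : Fintype.card {j // j ≠ i} = t - 1 := by
    rw [Fintype.card_subtype_compl, Fintype.card_fin, Fintype.card_subtype_eq]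
  have h : ∀ j : {j // j ≠ i}, ∏ r : {j // j ≠ i} → Fin k, w (r j) = (∏ a, w a) ^ k ^ (t - 2) := by
    intro j
    rw [← Equiv.prod_comp (Equiv.funSplitAt j (Fin k)).symm, Fintype.prod_prod_type]
    simp only [Equiv.funSplitAt, Equiv.piSplitAt, Equiv.coe_fn_symm_mk, dite_true]
    simp only [Finset.prod_const, ← Finset.prod_pow, Finset.card_univ, Fintype.card_fun, Fintype.card_fin,
      Fintype.card_subtype_compl, Fintype.card_subtype_eq]
    exact Finset.prod_congr rfl fun a _ => congrArg _ (congrArg _ (by omega))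
  rw [Finset.prod_congr rfl fun j _ => h j, Finset.prod_const, Finset.card_univ, hcard, ← pow_mul, mul_comm]

theorem exp_two (z : Multiplicative (ZMod 2) × SqClass F) : z * z = 1 := TPow.exp_two z

/-- the spinor norm of a slot reflection -/
theorem spW_slot_refl (hk : Even k) (ht : 2 ≤ t) (i : Fin t) {u : Fin k → F} (hu : wq w u ≠ 0) :
    spW h2 hw (slotQ i ⟨reflEquiv (wq w) u hu, reflEquiv_mem _ u hu⟩) =
      (1, discClass hw ^ ((t - 1) * k ^ (t - 2))) := by
  classical
  obtain ⟨s, hs⟩ : ∃ s : SmlW w, s = ⟨reflEquiv (wq w) u hu, reflEquiv_mem _ u hu⟩ := ⟨_, rfl⟩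
  rw [← hs]
  rcases Nat.eq_zero_or_pos k with rfl | hk0
  · exact absurd (show wq w u = 0 by rw [wq_apply]; simp) hu
  have hr0 : ∀ r : {j // j ≠ i} → Fin k, ∏ j : {j // j ≠ i}, w (r j) ≠ 0 := fun r =>
    Finset.prod_ne_zero_iff.2 fun _ _ => hw _
  have key : ∀ S : Finset ({j // j ≠ i} → Fin k), ∀ hS : (fun p : Fin t → Fin k =>
      if (fun j : {j // j ≠ i} => p j.1) ∈ S then s else 1) ∈ indep t w i,
      spW h2 hw (lineQ i ⟨_, hS⟩) =
        ∏ r ∈ S, ((Multiplicative.ofAdd (1 : ZMod 2)), sqClass (mul_ne_zero (hr0 r) hu)) := by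
    intro S
    induction S using Finset.induction_on with
    | empty =>
      intro hS
      have e : (⟨_, hS⟩ : indep t w i) = 1 := Subtype.ext (funext fun p => by simp)
      rw [e, map_one, map_one, Finset.prod_empty]
    | insert r S hr ih =>
      intro hS
      obtain ⟨c, hc⟩ : ∃ c : Fin t → Fin k, (fun j : {j // j ≠ i} => c j.1) = r :=
        ⟨fun j => if h : j = i then ⟨0, hk0⟩ else r ⟨j, h⟩, funext fun j => by simp [j.2]⟩
      have hS' : (fun p : Fin t → Fin k => if (fun j : {j // j ≠ i} => p j.1) ∈ S then s else 1) ∈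
          indep t w i := fun p a => by
        have e : (fun j : {j // j ≠ i} => Function.update p i a j.1) = fun j : {j // j ≠ i} => p j.1 :=
          funext fun j => by rw [Function.update_of_ne j.2]
        simp only [e]
      have hon : ∀ p : Fin t → Fin k, ((fun j : {j // j ≠ i} => p j.1) = r) ↔ ∀ j, j ≠ i → p j = c j := by
        intro p
        rw [← hc, funext_iff]
        exact ⟨fun h j hj => h ⟨j, hj⟩, fun h j => h j.1 j.2⟩
      have e : (⟨_, hS⟩ : indep t w i) = oneI i c s * ⟨_, hS'⟩ := Subtype.ext (funext fun p => by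
        show (if _ then s else 1) = (oneI i c s).1 p * (if _ then s else 1)
        rw [oneI_apply]
        simp only [Finset.mem_insert, ← hon p]
        by_cases h : (fun j : {j // j ≠ i} => p j.1) = r
        · simp [h, hr]
        · simp [h])
      obtain ⟨v, hv, hvw, ev⟩ := lineQ_oneI_refl hw i c hu
      rw [e, map_mul, map_mul, ih hS', Finset.prod_insert hr, hs, ev, spW_refl]
      have hwt : lineWt w i c = ∏ j : {j // j ≠ i}, w (r j) := by
        rw [lineWt, ← hc]
        exact Finset.prod_subtype (Finset.univ.erase i) (fun x => by simp) fun j => w (c j)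
      simp only [hvw, hwt]
  have h := key Finset.univ (fun p a => by simp)
  have e : (⟨fun p : Fin t → Fin k => if (fun j : {j // j ≠ i} => p j.1) ∈ Finset.univ then s else 1,
      fun p a => by simp⟩ : indep t w i) = constI i s := Subtype.ext (funext fun p => by simp [constI])
  rw [e] at h
  show spW h2 hw (lineQ i (constI i s)) = _
  rw [h]
  have hK : Even (Fintype.card ({j // j ≠ i} → Fin k)) := by
    rw [Fintype.card_fun, Fintype.card_fin, Fintype.card_subtype_compl, Fintype.card_fin, Fintype.card_subtype_eq]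
    exact hk.pow_of_ne_zero (by omega)
  obtain ⟨m, hm⟩ := hK
  refine Prod.ext ?_ ?_
  · rw [Prod.fst_prod, Finset.prod_const, Finset.card_univ, hm, ← two_mul, pow_mul,
      show (Multiplicative.ofAdd (1 : ZMod 2)) ^ 2 = 1 from by decide, one_pow]
  · rw [Prod.snd_prod]
    simp only [sqClass_mul (hr0 _) hu, Finset.prod_mul_distrib, Finset.prod_const, Finset.card_univ, hm,
      ← two_mul, pow_mul, pow_two, sqClass_mul_self, one_pow, mul_one]
    rw [sqProj_prod _ _ hr0, discClass, sqClass, sqClass, ← map_pow]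
    exact congrArg _ (Units.ext (by simp [prod_lineWt ht i, pow_mul]))

variable [Finite F]

theorem exists_refl_word (g : SmlW w) (P : SmlW w → Prop) (h1 : P 1)
    (hstep : ∀ (u : Fin k → F) (hu : wq w u ≠ 0) (x : SmlW w), P x →
      P (⟨reflEquiv (wq w) u hu, reflEquiv_mem _ u hu⟩ * x))
    (hw : ∀ a, w a ≠ 0) (h2 : (2 : F) ≠ 0) : P g := by
  obtain ⟨g, hg⟩ := g
  have hg' : g ∈ Subgroup.closure (reflSet (wq w)) :=
    quadIsoms_eq_closure _ (wq_sep hw h2) (exGen_of_odd h2) ▸ hg
  have hle := reflSet_closure_le (wq w)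
  suffices ∀ x (hx : x ∈ Subgroup.closure (reflSet (wq w))), P ⟨x, hle hx⟩ from this g hg'
  intro x hx
  induction hx using Subgroup.closure_induction_left with
  | one => exact h1
  | mul_left a ha b hb ih =>
    obtain ⟨u, hu, rfl⟩ := ha
    exact hstep u hu _ ih
  | inv_mul_cancel a ha b hb ih =>
    obtain ⟨u, hu, rfl⟩ := ha
    have e : (⟨(reflEquiv (wq w) u hu)⁻¹ * b, hle (mul_mem (inv_mem (Subgroup.subset_closure ⟨u, hu, rfl⟩)) hb)⟩ : SmlW w) =
        ⟨reflEquiv (wq w) u hu, reflEquiv_mem _ u hu⟩ * ⟨b, hle hb⟩ := Subtype.ext (by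
      show (reflEquiv (wq w) u hu)⁻¹ * b = reflEquiv (wq w) u hu * b
      rw [inv_eq_of_mul_eq_one_right (reflEquiv_mul_self (wq w) u hu)])
    rw [e]
    exact hstep u hu _ ih

include h2 hw

/-- three slots, or square discriminant: slot elements lie in the commutator subgroup -/
theorem slotQ_mem_commutator (hk : Even k) (ht : 2 ≤ t) (h : 3 ≤ t ∨ IsSquare (∏ a, w a)) (i : Fin t)
    (x : SmlW w) : slotQ i x ∈ commutator (BigW t w) := by
  rw [← spW_ker h2 hw]
  refine exists_refl_word x (fun x => spW h2 hw (slotQ i x) = 1) (by rw [map_one, map_one]) (fun u hu y hy => ?_) hw h2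
  rw [map_mul, map_mul, hy, mul_one, spW_slot_refl h2 hw hk ht i hu]
  refine Prod.ext rfl ?_
  show discClass hw ^ _ = 1
  rcases h with h | h
  · obtain ⟨m, hm⟩ := hk
    obtain ⟨e, he⟩ : ∃ e, (t - 1) * k ^ (t - 2) = 2 * e := ⟨(t - 1) * m * k ^ (t - 3), by
      rw [show t - 2 = (t - 3) + 1 by omega, pow_succ, hm]; ring⟩
    rw [he, pow_mul, pow_two, sqClass_mul_self, one_pow]
  · rw [discClass, (sqClass_eq_one_iff _).2 h, one_pow]

/-- two slots, non-square discriminant: the value of a slot reflection -/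
theorem spW_slot_refl_two (hk : Even k) (ht : t = 2) (i : Fin t) {u : Fin k → F} (hu : wq w u ≠ 0) :
    spW h2 hw (slotQ i ⟨reflEquiv (wq w) u hu, reflEquiv_mem _ u hu⟩) = (1, discClass hw) := by
  subst ht
  rw [spW_slot_refl h2 hw hk le_rfl i hu]
  simp

/-- two slot reflections together lie in the commutator subgroup -/
theorem slot_refl_pair_mem (hk : Even k) (ht : 2 ≤ t) (i j : Fin t) {u v : Fin k → F} (hu : wq w u ≠ 0)
    (hv : wq w v ≠ 0) :
    slotQ i ⟨reflEquiv (wq w) u hu, reflEquiv_mem _ u hu⟩ * slotQ j ⟨reflEquiv (wq w) v hv, reflEquiv_mem _ v hv⟩ ∈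
      commutator (BigW t w) := by
  rw [← spW_ker h2 hw, map_mul, spW_slot_refl h2 hw hk ht i hu, spW_slot_refl h2 hw hk ht j hv]
  exact exp_two _

end CfsgLib.MaxSub.TPowE
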