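import Cfsg.Agent.Lib.MaxSub.TPowE.Base
import Cfsg.Agent.Lib.MaxSub.TPow.Transport

/-!
The even-dimensional tensor power stabiliser is proper in the weighted model; transport from a form similar to a
tensor power.
-/

set_option autoImplicit false
set_option linter.unusedSectionVars false

namespace CfsgLib.MaxSub.TPowE

open Matrix CfsgLib.Classical CfsgLib.Geom CfsgLib.Geom.OrthSub CfsgLib.MaxSub
open CfsgLib.Aschbacher (pureMat pureMat_mul)
open QuadraticMap (polar)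
open scoped Matrix MatrixGroups commutatorElement

variable {t k : ℕ} {F : Type*} [Field F]

variable (k) in
/-- the weights `1, …, 1, δ` -/
def dW (δ : F) : Fin k → F := fun a => if (a : ℕ) + 1 = k then δ else 1

theorem dW_ne_zero {δ : F} (hδ : δ ≠ 0) (a : Fin k) : dW k δ a ≠ 0 := by
  rw [dW]; split_ifs
  exacts [hδ, one_ne_zero]

theorem dW_of_lt (δ : F) {a : Fin k} (h : (a : ℕ) + 1 < k) : dW k δ a = 1 := if_neg (by omega)

theorem prod_dW (hk : 0 < k) (δ : F) : ∏ a, dW k δ a = δ := by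
  refine (Finset.prod_eq_single (⟨k - 1, by omega⟩ : Fin k) (fun b _ hb => ?_) (by simp)).trans ?_
  · exact if_neg fun h => hb (Fin.ext (by simp only; omega))
  · exact if_pos (by simp only; omega)

variable [Fintype F]

/-- the stabiliser is proper -/
theorem base_lt (hk4 : 4 ≤ k) (ht : 2 ≤ t) (δ : F) : baseW t (dW k δ) < OmW t (dW k δ) := by
  classical
  refine lt_of_le_not_ge inf_le_right fun hle => ?_
  obtain ⟨c, hc⟩ : ∃ c : Fin t → Fin k, c = fun _ => ⟨0, by omega⟩ := ⟨_, rfl⟩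
  obtain ⟨i, hi⟩ : ∃ i : Fin t, i = ⟨0, by omega⟩ := ⟨_, rfl⟩
  obtain ⟨j, hj⟩ : ∃ j : Fin t, j = ⟨1, by omega⟩ := ⟨_, rfl⟩
  have hij : i ≠ j := by simp [hi, hj]
  obtain ⟨x, hx⟩ : ∃ x : Fin k, x = ⟨1, by omega⟩ := ⟨_, rfl⟩
  obtain ⟨y, hy⟩ : ∃ y : Fin k, y = ⟨2, by omega⟩ := ⟨_, rfl⟩
  obtain ⟨p, hp⟩ : ∃ p, p = Function.update c i x := ⟨_, rfl⟩
  obtain ⟨p₂, hp₂⟩ : ∃ p, p = Function.update c i y := ⟨_, rfl⟩
  obtain ⟨r, hr⟩ : ∃ r, r = Function.update c j x := ⟨_, rfl⟩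
  have hxc : ∀ l, x ≠ c l := fun l => by simp [hx, hc]
  have hyc : ∀ l, y ≠ c l := fun l => by simp [hy, hc]
  have hcp : c ≠ p := fun e => hxc i (by have := congrFun e i; rw [hp, Function.update_self] at this; exact this.symm)
  have hpp : p ≠ p₂ := fun e => by
    have := congrFun e i
    rw [hp, hp₂, Function.update_self, Function.update_self, hx, hy, Fin.ext_iff] at this
    simp at this
  have hcp₂ : c ≠ p₂ := fun e => hyc i (by have := congrFun e i; rw [hp₂, Function.update_self] at this; exact this.symm)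
  have hrc : r ≠ c := fun e => hxc j (by have := congrFun e j; rw [hr, Function.update_self] at this; exact this)
  have hrp : r ≠ p := fun e => hxc i (by
    have := congrFun e i
    rw [hr, hp, Function.update_self, Function.update_of_ne hij] at this
    exact this.symm)
  have hrp₂ : r ≠ p₂ := fun e => hyc i (by
    have := congrFun e i
    rw [hr, hp₂, Function.update_self, Function.update_of_ne hij] at this
    exact this.symm)
  have h1 : ∀ q : Fin t → Fin k, (∀ l, (q l : ℕ) + 1 < k) → tw t (dW k δ) q = 1 := fun q hq =>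
    Finset.prod_eq_one fun l _ => dW_of_lt δ (hq l)
  have hwc : tw t (dW k δ) c = 1 := h1 c fun l => by simp only [hc]; omega
  have hwu : ∀ z : Fin k, (z : ℕ) + 1 < k → tw t (dW k δ) (Function.update c i z) = 1 := fun z hz =>
    h1 _ fun l => by
      rcases eq_or_ne l i with rfl | hl
      · rw [Function.update_self]; exact hz
      · rw [Function.update_of_ne hl]; simp only [hc]; omega
  have hwp : tw t (dW k δ) p = 1 := hp ▸ hwu x (by simp only [hx]; omega)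
  have hwp₂ : tw t (dW k δ) p₂ = 1 := hp₂ ▸ hwu y (by simp only [hy]; omega)
  obtain ⟨s₁, hs₁⟩ : ∃ s : wperm (tw t (dW k δ)), s.1 = Equiv.swap c p :=
    ⟨⟨_, swap_mem_wperm _ (hwc.trans hwp.symm)⟩, rfl⟩
  obtain ⟨s₂, hs₂⟩ : ∃ s : wperm (tw t (dW k δ)), s.1 = Equiv.swap p p₂ :=
    ⟨⟨_, swap_mem_wperm _ (hwp.trans hwp₂.symm)⟩, rfl⟩
  obtain ⟨σ, hσ⟩ : ∃ σ, σ = ⁅s₁, s₂⁆ := ⟨_, rfl⟩
  have hmem : isomsToGL (wq (tw t (dW k δ))) (permW _ σ) ∈ OmW t (dW k δ) := by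
    refine mem_OmW ?_
    rw [hσ, map_commutatorElement, commutator_def]
    exact Subgroup.commutator_mem_commutator trivial trivial
  obtain ⟨s, hs⟩ := TPow.wreath_exchange (hle hmem).1 j
  have he : ∀ a b : Fin t → Fin k,
      (isomsToGL (wq (tw t (dW k δ))) (permW _ σ) : Matrix (Fin t → Fin k) (Fin t → Fin k) F) a b =
        if a = σ.1 b then 1 else 0 := fun a b => by
    rw [isomsToGL_entry, permW_single, Pi.single_apply]
  have hσ1 : σ.1 = Equiv.swap c p * Equiv.swap p p₂ * Equiv.swap c p * Equiv.swap p p₂ := by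
    rw [hσ, commutatorElement_def, Subgroup.coe_mul, Subgroup.coe_mul, Subgroup.coe_mul, Subgroup.coe_inv,
      Subgroup.coe_inv, hs₁, hs₂, Equiv.swap_inv, Equiv.swap_inv]
  have hσc : σ.1 c = p₂ := by
    rw [hσ1]
    simp only [Equiv.Perm.mul_apply]
    rw [Equiv.swap_apply_of_ne_of_ne hcp hcp₂, Equiv.swap_apply_left, Equiv.swap_apply_left,
      Equiv.swap_apply_of_ne_of_ne hcp₂.symm hpp.symm]
  have hσr : σ.1 r = r := by
    rw [hσ1]
    simp only [Equiv.Perm.mul_apply]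
    simp only [Equiv.swap_apply_of_ne_of_ne hrp hrp₂, Equiv.swap_apply_of_ne_of_ne hrc hrp]
  have h := hs p₂ c r r
  rw [show Function.update c j (r j) = r by rw [hr, Function.update_self],
    show Function.update r j (c j) = c by rw [hr, Function.update_idem, Function.update_eq_self]] at h
  simp only [he, hσc, hσr, if_true, mul_one] at h
  have h1 : Function.update p₂ s (r s) = r := by
    by_contra hne
    rw [if_neg hne, zero_mul] at h
    exact one_ne_zero h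
  rcases eq_or_ne s i with rfl | hsi
  · have := congrFun h1 j
    rw [Function.update_of_ne (Ne.symm hij), hp₂, Function.update_of_ne (Ne.symm hij), hr, Function.update_self] at this
    exact hxc j this.symm
  · have := congrFun h1 i
    rw [Function.update_of_ne (Ne.symm hsi), hp₂, Function.update_self, hr, Function.update_of_ne hij] at this
    exact hyc i this

/-- a symmetric form is congruent to a diagonal form with weights `1, …, 1, δ` -/
theorem exists_congr (h2 : (2 : F) ≠ 0) (hk : 0 < k) {f : (Fin k → F) → (Fin k → F) → F}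
    (hf : Cfsg.Geo.IsSymmetricForm f) : ∃ (S : GL (Fin k) F) (δ : F), δ ≠ 0 ∧
      (S : Matrix (Fin k) (Fin k) F)ᵀ * Cfsg.Geo.gramMatrix f * (S : Matrix (Fin k) (Fin k) F) =
        Matrix.diagonal (dW k δ) := by
  classical
  obtain ⟨B, hBd⟩ : ∃ B, B = TensorOO.toBilin hf := ⟨_, rfl⟩
  have hB : ∀ x y, B x y = f x y := fun x y => by rw [hBd]; rfl
  obtain ⟨Q₁, hQ₁d⟩ : ∃ Q₁, Q₁ = LinearMap.BilinMap.toQuadraticMap B := ⟨_, rfl⟩
  have hQ₁ : ∀ x y, polar Q₁ x y = 2 * f x y := fun x y => by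
    rw [hQ₁d, LinearMap.BilinMap.polar_toQuadraticMap, hB, hB, hf.symm y x]
    ring
  have hsep₁ : ∀ x, (∀ y, polar Q₁ x y = 0) → x = 0 := fun x hx => by
    by_contra hx0
    obtain ⟨y, hy⟩ := (hf.nondegenerate x hx0).2
    have := hx y
    rw [hQ₁, mul_eq_zero] at this
    exact hy (this.resolve_left h2)
  obtain ⟨d, hd⟩ : ∃ d, d = (Cfsg.Geo.gramMatrix f).det := ⟨_, rfl⟩
  have hM₁ : LinearMap.toMatrix₂ (Pi.basisFun F (Fin k)) (Pi.basisFun F (Fin k)) Q₁.polarBilin =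
      (2 : F) • Cfsg.Geo.gramMatrix f := by
    ext a b
    rw [LinearMap.toMatrix₂_apply, Matrix.smul_apply, Pi.basisFun_apply, Pi.basisFun_apply, smul_eq_mul]
    exact hQ₁ _ _
  have e4 : ∀ x y, f x y = x ⬝ᵥ (Cfsg.Geo.gramMatrix f *ᵥ y) := fun x y => by
    rw [← TensorFrame.formOfGram_gram id f hf.bilinear.add_left hf.bilinear.smul_left hf.bilinear.add_right
      hf.bilinear.smul_right]
    simp only [Cfsg.Geo.formOfGram, Matrix.mulVec, dotProduct, Finset.mul_sum, id_eq, mul_assoc]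
  have hd0 : d ≠ 0 := by
    intro h0
    obtain ⟨v, hv0, hv⟩ := Matrix.exists_mulVec_eq_zero_iff.2 (hd ▸ h0)
    refine hv0 (hsep₁ v fun y => ?_)
    rw [hQ₁, hf.symm, e4, hv, dotProduct_zero, mul_zero]
  obtain ⟨Q', hQ'd⟩ : ∃ Q', Q' = wq (dW k d) := ⟨_, rfl⟩
  have hw : ∀ a, dW k d a ≠ 0 := dW_ne_zero hd0
  have hQ' : ∀ x y, polar Q' x y = 2 * ∑ a, dW k d a * (x a * y a) := fun x y => hQ'd ▸ polar_wq _ x y
  have hM' : LinearMap.toMatrix₂ (Pi.basisFun F (Fin k)) (Pi.basisFun F (Fin k)) Q'.polarBilin =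
      (2 : F) • Matrix.diagonal (dW k d) := by
    ext a b
    rw [LinearMap.toMatrix₂_apply, Matrix.smul_apply, Pi.basisFun_apply, Pi.basisFun_apply, smul_eq_mul]
    show polar Q' _ _ = _
    rw [hQ']
    rcases eq_or_ne a b with rfl | hab
    · simp [Finset.sum_eq_single a, Pi.single_apply]
    · simp [hab, Ne.symm hab, Pi.single_apply]
  obtain ⟨e, he⟩ := exists_isometry_of_disc Q' Q₁ h2 (hQ'd ▸ wq_sep hw h2) hsep₁ (Pi.basisFun F (Fin k))
    (Pi.basisFun F (Fin k))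
    (by
      refine ⟨2 ^ k * d, ?_⟩
      rw [hM', hM₁, det_smul, det_smul, det_diagonal, prod_dW hk, Fintype.card_fin, ← hd])
  obtain ⟨S, hS⟩ := (glLin (F := F) (ι := Fin k)).surjective e
  refine ⟨S, d, hd0, Matrix.ext fun a b => ?_⟩
  have h1 : polar Q₁ (e (Pi.single a 1)) (e (Pi.single b 1)) = polar Q' (Pi.single a 1) (Pi.single b 1) := by
    simp only [QuadraticMap.polar, ← map_add, he]
  rw [hQ₁, hQ'] at h1
  have h3 := mul_left_cancel₀ h2 h1
  rw [e4, ← hS, glLin_apply, glLin_apply, mulVec_mulVec, dotProduct_mulVec, ← Matrix.mulVec_transpose,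
    mulVec_mulVec] at h3
  rw [Matrix.mulVec_single_one, dotProduct_single, mul_one, Matrix.col_apply] at h3
  have hG : (Cfsg.Geo.gramMatrix f)ᵀ = Cfsg.Geo.gramMatrix f := Matrix.ext fun x y => hf.symm _ _
  rw [Matrix.transpose_mul, hG] at h3
  have hsym : ((S : Matrix (Fin k) (Fin k) F)ᵀ * Cfsg.Geo.gramMatrix f * (S : Matrix (Fin k) (Fin k) F))ᵀ =
      (S : Matrix (Fin k) (Fin k) F)ᵀ * Cfsg.Geo.gramMatrix f * (S : Matrix (Fin k) (Fin k) F) := by
    rw [Matrix.transpose_mul, Matrix.transpose_mul, Matrix.transpose_transpose, hG, Matrix.mul_assoc]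
  rw [← hsym, Matrix.transpose_apply]
  refine h3.trans ?_
  rcases eq_or_ne a b with rfl | hab
  · rw [Finset.sum_eq_single a (fun c _ hc => by simp [hc]) (by simp), Matrix.diagonal_apply_eq]
    simp
  · rw [Matrix.diagonal_apply_ne _ hab]
    exact Finset.sum_eq_zero fun c _ => by
      rcases eq_or_ne c a with rfl | hc
      · simp [hab]
      · simp [hc]

/-- a form similar to the weighted one, as isometry groups -/
def conjW {ι κ : Type} [Fintype ι] [DecidableEq ι] [Fintype κ] [DecidableEq κ] (Q : QuadraticForm F (κ → F))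
    (R : QuadraticForm F (ι → F)) (ψ : (κ → F) ≃ₗ[F] (ι → F)) {a : F} (ha : a ≠ 0)
    (hψ : ∀ x, Q x = a * R (ψ x)) : quadIsoms Q ≃* quadIsoms R where
  toFun g := ⟨(ψ.symm.trans g.1).trans ψ, mem_quadIsoms.2 fun y => by
    apply mul_left_cancel₀ ha
    show a * R (ψ (g.1 (ψ.symm y))) = _
    rw [← hψ, g.2, hψ, ψ.apply_symm_apply]⟩
  invFun h := ⟨(ψ.trans h.1).trans ψ.symm, mem_quadIsoms.2 fun x => by
    show Q (ψ.symm (h.1 (ψ x))) = Q x
    rw [hψ, ψ.apply_symm_apply, h.2, hψ]⟩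
  left_inv g := quadIsoms_ext _ fun x => by
    show ψ.symm (ψ (g.1 (ψ.symm (ψ x)))) = g.1 x
    simp
  right_inv h := quadIsoms_ext _ fun x => by
    show ψ (ψ.symm (h.1 (ψ (ψ.symm x)))) = h.1 x
    simp
  map_mul' g h := quadIsoms_ext _ fun x => by
    show ψ (g.1 (h.1 (ψ.symm x))) = ψ (g.1 (ψ.symm (ψ (h.1 (ψ.symm x)))))
    rw [ψ.symm_apply_apply]

theorem conjW_commutator {ι κ : Type} [Fintype ι] [DecidableEq ι] [Fintype κ] [DecidableEq κ]
    (Q : QuadraticForm F (κ → F)) (R : QuadraticForm F (ι → F)) (ψ : (κ → F) ≃ₗ[F] (ι → F)) {a : F} (ha : a ≠ 0)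
    (hψ : ∀ x, Q x = a * R (ψ x)) :
    (commutator (quadIsoms Q)).map (conjW Q R ψ ha hψ).toMonoidHom = commutator (quadIsoms R) := by
  rw [commutator_def, Subgroup.map_commutator, Subgroup.map_top_of_surjective _ (conjW Q R ψ ha hψ).surjective,
    commutator_def]

/-- maximality from the weighted model -/
theorem isMaximalIn_transport {ι : Type} [Fintype ι] [DecidableEq ι] (h2 : (2 : F) ≠ 0)
    (hk4 : 4 ≤ k) (ht : 2 ≤ t) (Qn : QuadraticForm F (ι → F)) (e : ι ≃ (Fin t → Fin k)) (P : GL ι F)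
    {f₁ : (Fin k → F) → (Fin k → F) → F} (δ : F) (hδ : δ ≠ 0) (S : GL (Fin k) F)
    (hS : (S : Matrix (Fin k) (Fin k) F)ᵀ * Cfsg.Geo.gramMatrix f₁ * (S : Matrix (Fin k) (Fin k) F) =
      Matrix.diagonal (dW k δ))
    (main : ∀ M : Subgroup (GL (Fin t → Fin k) F),
      baseW t (dW k δ) ≤ M → M ≤ OmW t (dW k δ) → M = baseW t (dW k δ) ∨ M = OmW t (dW k δ))
    (hT : Cfsg.Geo.IsTensorPowerFormStructure id (polar Qn) f₁ e P) :
    Cfsg.Geo.IsMaximalIn (Cfsg.Geo.omegaGL (⇑Qn))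
      (Cfsg.Geo.tensorWreathSubgroup k t e P ⊓ Cfsg.Geo.omegaGL (⇑Qn)) := by
  classical
  obtain ⟨c, hc, hform⟩ := hT
  obtain ⟨T, hTv⟩ : ∃ T : GL (Fin t → Fin k) F,
      (T : Matrix (Fin t → Fin k) (Fin t → Fin k) F) = pureMat fun _ => (S : Matrix (Fin k) (Fin k) F) :=
    ⟨⟨pureMat fun _ => (S : Matrix (Fin k) (Fin k) F),
      pureMat fun _ => ((S⁻¹ : GL (Fin k) F) : Matrix (Fin k) (Fin k) F),
      by rw [pureMat_mul]; simp [CfsgLib.Aschbacher.pureMat_one],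
      by rw [pureMat_mul]; simp [CfsgLib.Aschbacher.pureMat_one]⟩, rfl⟩
  have hTW : T ∈ Cfsg.Geo.tensorWreathStandard k t F :=
    Subgroup.subset_closure (Or.inl ⟨fun _ => S, fun x y => by rw [hTv]; rfl⟩)
  obtain ⟨E, hE⟩ : ∃ E : GL (Fin t → Fin k) F ≃* GL ι F,
      E = (Cfsg.Geo.glReindex e.symm).trans (MulAut.conj (P * Cfsg.Geo.glReindex e.symm T)) := ⟨_, rfl⟩
  obtain ⟨ψ, hψd⟩ : ∃ ψ : ((Fin t → Fin k) → F) ≃ₗ[F] (ι → F), ∀ y,
      ψ y = (P : Matrix ι ι F) *ᵥ (((T : Matrix (Fin t → Fin k) (Fin t → Fin k) F) *ᵥ y) ∘ e) :=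
    ⟨((glLin T).trans (TPow.coordEquiv e)).trans (glLin P), fun y => rfl⟩
  obtain ⟨a, had⟩ : ∃ a, a = c / 2 := ⟨_, rfl⟩
  have ha : a ≠ 0 := by rw [had]; exact div_ne_zero hc h2
  have hψq : ∀ y, Qn (ψ y) = a * wq (tw t (dW k δ)) y := by
    intro y
    apply mul_left_cancel₀ h2
    have e1 : polar Qn (ψ y) (ψ y) = 2 * Qn (ψ y) := by
      rw [QuadraticMap.polar_self, nsmul_eq_mul, Nat.cast_ofNat]
    rw [← e1, hψd, hform]
    simp only [id_eq]
    obtain ⟨z, hz⟩ : ∃ z, z = (T : Matrix (Fin t → Fin k) (Fin t → Fin k) F) *ᵥ y := ⟨_, rfl⟩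
    rw [← hz]
    have e2 : (∑ p, ∑ q, z p * (∏ i, Cfsg.Geo.gramMatrix f₁ (p i) (q i)) * z q) =
        z ⬝ᵥ ((pureMat fun _ : Fin t => Cfsg.Geo.gramMatrix f₁) *ᵥ z) := by
      simp only [Matrix.mulVec, dotProduct, Finset.mul_sum, pureMat, Matrix.of_apply, mul_assoc]
    rw [e2, hz, dotProduct_mulVec, ← Matrix.mulVec_transpose, mulVec_mulVec, dotProduct_comm,
      dotProduct_mulVec, ← Matrix.mulVec_transpose, mulVec_mulVec]
    have e3 : ((pureMat fun _ : Fin t => Cfsg.Geo.gramMatrix f₁)ᵀ *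
        (T : Matrix (Fin t → Fin k) (Fin t → Fin k) F))ᵀ * (T : Matrix (Fin t → Fin k) (Fin t → Fin k) F) =
        Matrix.diagonal (tw t (dW k δ)) := by
      rw [Matrix.transpose_mul, Matrix.transpose_transpose, hTv, CfsgLib.Aschbacher.Orth.pureMat_transpose,
        pureMat_mul, pureMat_mul]
      simp only [← Matrix.mul_assoc, hS]
      ext p q
      rw [pureMat, Matrix.of_apply]
      rcases eq_or_ne p q with rfl | hpq
      · simp [tw]
      · rw [Matrix.diagonal_apply_ne _ hpq]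
        obtain ⟨l, hl⟩ := Function.ne_iff.1 hpq
        exact Finset.prod_eq_zero (Finset.mem_univ l) (Matrix.diagonal_apply_ne _ hl)
    rw [e3, wq_apply, had]
    simp only [dotProduct, Matrix.mulVec_diagonal, mul_assoc]
    field_simp
  have hψ' : ∀ x, Qn x = a * wq (tw t (dW k δ)) (ψ.symm x) := fun x => by
    rw [← hψq, ψ.apply_symm_apply]
  obtain ⟨Φ, hΦ⟩ : ∃ Φ, Φ = conjW Qn _ ψ.symm ha hψ' := ⟨_, rfl⟩
  have hΦapp : ∀ (g : quadIsoms Qn) y, (Φ g).1 y = ψ.symm (g.1 (ψ y)) := fun g y => by rw [hΦ]; rfl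
  have hEψ : ∀ (h : GL (Fin t → Fin k) F) y,
      (E h : Matrix ι ι F) *ᵥ ψ y = ψ ((h : Matrix (Fin t → Fin k) (Fin t → Fin k) F) *ᵥ y) := by
    intro h y
    rw [hE]
    show ((P * Cfsg.Geo.glReindex e.symm T * Cfsg.Geo.glReindex e.symm h *
      (P * Cfsg.Geo.glReindex e.symm T)⁻¹ : GL ι F) : Matrix ι ι F) *ᵥ _ = _
    have hψ2 : ∀ y, ψ y = ((P * Cfsg.Geo.glReindex e.symm T : GL ι F) : Matrix ι ι F) *ᵥ (y ∘ e) := fun y => by
      rw [hψd, Units.val_mul, ← mulVec_mulVec, ← TPow.reindex_mulVec]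
      rfl
    rw [hψ2, hψ2, mulVec_mulVec, ← Units.val_mul, inv_mul_cancel_right, Units.val_mul, ← mulVec_mulVec,
      ← TPow.reindex_mulVec]
    rfl
  have hcomp : E.toMonoidHom.comp ((isomsToGL (wq (tw t (dW k δ)))).comp Φ.toMonoidHom) = isomsToGL Qn := by
    refine MonoidHom.ext fun g => Units.ext (Matrix.ext_iff_mulVec.2 fun x => ?_)
    obtain ⟨y, rfl⟩ := ψ.surjective x
    show (E (isomsToGL (wq (tw t (dW k δ))) (Φ g)) : Matrix ι ι F) *ᵥ ψ y = _
    rw [hEψ, isomsToGL_mulVec, hΦapp, ψ.apply_symm_apply, isomsToGL_mulVec]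
  have hO : Cfsg.Geo.omegaGL (⇑Qn) = (OmW t (dW k δ)).map E.toMonoidHom := by
    rw [omegaGL_eq_map, OmW, omegaGL_eq_map, Subgroup.map_map, ← hcomp, ← MonoidHom.comp_assoc, ← Subgroup.map_map,
      hΦ, conjW_commutator]
  have hW : Cfsg.Geo.tensorWreathSubgroup k t e P =
      (Cfsg.Geo.tensorWreathStandard k t F).map E.toMonoidHom := by
    ext g
    constructor
    · rintro ⟨_, ⟨h, hh, rfl⟩, rfl⟩
      refine ⟨T⁻¹ * h * T, mul_mem (mul_mem (inv_mem hTW) hh) hTW, ?_⟩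
      rw [hE]
      show (P * Cfsg.Geo.glReindex e.symm T) * Cfsg.Geo.glReindex e.symm (T⁻¹ * h * T) *
        (P * Cfsg.Geo.glReindex e.symm T)⁻¹ = P * Cfsg.Geo.glReindex e.symm h * P⁻¹
      rw [map_mul, map_mul, map_inv]
      group
    · rintro ⟨h, hh, rfl⟩
      refine ⟨_, ⟨T * h * T⁻¹, mul_mem (mul_mem hTW hh) (inv_mem hTW), rfl⟩, ?_⟩
      rw [hE]
      show P * Cfsg.Geo.glReindex e.symm (T * h * T⁻¹) * P⁻¹ =
        (P * Cfsg.Geo.glReindex e.symm T) * Cfsg.Geo.glReindex e.symm h * (P * Cfsg.Geo.glReindex e.symm T)⁻¹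
      rw [map_mul, map_mul, map_inv]
      group
  rw [hO, hW, ← Subgroup.map_inf _ _ _ E.injective]
  exact TPow.isMaximalIn_map E (base_lt hk4 ht δ) main

/-- four-dimensional forms of square discriminant are of plus type -/
theorem plus_of_square (h2 : (2 : F) ≠ 0) {f : (Fin k → F) → (Fin k → F) → F} (hf : Cfsg.Geo.IsSymmetricForm f)
    (hk : k = 4) (S : GL (Fin k) F) {δ : F} (hδ : δ ≠ 0) (hsq : IsSquare δ)
    (hS : (S : Matrix (Fin k) (Fin k) F)ᵀ * Cfsg.Geo.gramMatrix f * (S : Matrix (Fin k) (Fin k) F) =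
      Matrix.diagonal (dW k δ)) : Cfsg.Geo.IsPlusTypeOn (fun v : Fin k → F => f v v) ⊤ := by
  classical
  subst hk
  obtain ⟨s, rfl⟩ := hsq
  have hs : s ≠ 0 := fun h => hδ (by rw [h, mul_zero])
  obtain ⟨p, hp⟩ := CharP.exists F
  haveI : NeZero p := ⟨CharP.char_ne_zero_of_finite F p⟩
  obtain ⟨a, b, hab⟩ : ∃ a b : F, a ^ 2 + b ^ 2 = -1 := by
    obtain ⟨a, b, h⟩ := CharP.sq_add_sq F p (-1)
    exact ⟨a, b, by simpa using h⟩
  obtain ⟨G, hG⟩ : ∃ G, G = Cfsg.Geo.gramMatrix f := ⟨_, rfl⟩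
  have e4 : ∀ x y, f x y = x ⬝ᵥ (G *ᵥ y) := fun x y => by
    rw [hG, ← TensorFrame.formOfGram_gram id f hf.bilinear.add_left hf.bilinear.smul_left hf.bilinear.add_right
      hf.bilinear.smul_right]
    simp only [Cfsg.Geo.formOfGram, Matrix.mulVec, dotProduct, Finset.mul_sum, id_eq, mul_assoc]
  obtain ⟨L, hL⟩ : ∃ L : (Fin 2 → F) →ₗ[F] (Fin 4 → F),
      ∀ c, L c = (!![1, 0; 0, 1; a, -b; b / s, a / s] : Matrix (Fin 4) (Fin 2) F) *ᵥ c :=
    ⟨Matrix.mulVecLin _, fun c => rfl⟩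
  obtain ⟨U, hU⟩ : ∃ U : (Fin 2 → F) →ₗ[F] (Fin 4 → F), ∀ c, U c = (S : Matrix (Fin 4) (Fin 4) F) *ᵥ L c :=
    ⟨(Matrix.mulVecLin (S : Matrix (Fin 4) (Fin 4) F)).comp L, fun c => rfl⟩
  have hinj : Function.Injective U := by
    intro c d hcd
    rw [hU, hU] at hcd
    have h := congrArg (fun v => ((S⁻¹ : GL (Fin 4) F) : Matrix (Fin 4) (Fin 4) F) *ᵥ v) hcd
    simp only [mulVec_mulVec, ← Units.val_mul, inv_mul_cancel, Units.val_one, one_mulVec, hL] at h
    funext i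
    fin_cases i
    · simpa [Matrix.vecHead, Matrix.vecTail] using congrFun h 0
    · simpa [Matrix.vecHead, Matrix.vecTail] using congrFun h 1
  refine ⟨LinearMap.range U, le_top, ?_, ?_⟩
  · rintro _ ⟨c, rfl⟩
    show f (U c) (U c) = 0
    rw [e4, hU, mulVec_mulVec, dotProduct_comm, dotProduct_mulVec, ← Matrix.mulVec_transpose, mulVec_mulVec]
    rw [hG, ← Matrix.mul_assoc, hS, hL]
    simp only [dotProduct, Fin.sum_univ_four, Matrix.mulVec_diagonal]
    simp [dW, Matrix.vecHead, Matrix.vecTail, Matrix.mulVec, dotProduct, Fin.sum_univ_two]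
    field_simp
    linear_combination (c 0 ^ 2 + c 1 ^ 2) * hab
  · rw [LinearMap.finrank_range_of_inj hinj, finrank_top, Module.finrank_fintype_fun_eq_card,
      Module.finrank_fintype_fun_eq_card, Fintype.card_fin, Fintype.card_fin]

/-- the frozen statement from the weighted model -/
theorem of_main
    (main : ∀ (t k : ℕ) (δ : F), δ ≠ 0 → Even k → 2 ≤ t → (6 ≤ k ∨ (k = 4 ∧ ¬ IsSquare δ)) →
      ∀ M : Subgroup (GL (Fin t → Fin k) F), baseW t (dW k δ) ≤ M → M ≤ OmW t (dW k δ) →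
        M = baseW t (dW k δ) ∨ M = OmW t (dW k δ))
    {n : ℕ} (Q : (Fin n → F) → F) (hQ : Cfsg.Geo.IsNondegenerateQuadraticForm Q)
    (hodd : Odd (Fintype.card F)) (k t : ℕ) (ht : 2 ≤ t) (hke : Even k) (e : (Fin n) ≃ (Fin t → Fin k))
    (P : Matrix.GeneralLinearGroup (Fin n) F) (f₁ : (Fin k → F) → (Fin k → F) → F)
    (hf₁ : Cfsg.Geo.IsSymmetricForm f₁)
    (hsize : (6 ≤ k ∧ Cfsg.Geo.IsPlusTypeOn (fun v : Fin k → F => f₁ v v) ⊤) ∨
      (4 ≤ k ∧ ¬ Cfsg.Geo.IsPlusTypeOn (fun v : Fin k → F => f₁ v v) ⊤))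
    (hT : Cfsg.Geo.IsTensorPowerFormStructure id (QuadraticMap.polar Q) f₁ e P) :
    Cfsg.Geo.IsMaximalIn (Cfsg.Geo.omegaGL Q)
      (Cfsg.Geo.tensorWreathSubgroup k t e P ⊓ Cfsg.Geo.omegaGL Q) := by
  have h2 := CfsgLib.Classical.two_ne_zero_of_odd (F := F) hodd
  have hk4 : 4 ≤ k := by omega
  obtain ⟨S, δ, hδ, hS⟩ := exists_congr h2 (by omega) hf₁
  have hcase : 6 ≤ k ∨ (k = 4 ∧ ¬ IsSquare δ) := by
    rcases hsize with ⟨h, -⟩ | ⟨h, hminus⟩
    · exact Or.inl h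
    · rcases lt_or_ge k 6 with h6 | h6
      · obtain ⟨m, hm⟩ := hke
        have hk : k = 4 := by omega
        exact Or.inr ⟨hk, fun hsq => hminus (plus_of_square h2 hf₁ hk S hδ hsq hS)⟩
      · exact Or.inl h6
  rw [← quadFormOf_coe hQ] at hT ⊢
  exact isMaximalIn_transport h2 hk4 ht (quadFormOf hQ) e P δ hδ S hS (main t k δ hδ hke ht hcase) hT

end CfsgLib.MaxSub.TPowE
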